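import Cfsg.Agent.Lib.Coprime.Generation
import Cfsg.Agent.Lib.Coprime.Action
import Cfsg.Prelude.Def_CaseTheorems
import Cfsg.Prelude.Def_LocalEven
import Cfsg.Prelude.Def_Transfer
import Mathlib.GroupTheory.Index

/-!
General lemmas for the Klinger–Mason theorem: elementary abelian subgroups, coprime action of
an involution and of a four-group on a `p`-group, hyperplanes.
-/

set_option autoImplicit false
set_option linter.style.haveILetI false
set_option linter.unusedSectionVars false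
set_option linter.style.show false

namespace CfsgLib.KlingerMason

open Subgroup Cfsg
open scoped Pointwise

variable {G : Type*} [Group G]

theorem commute_of_mem_centralizer_singleton {x y : G} (h : y ∈ centralizer ({x} : Set G)) :
    x * y = y * x :=
  mem_centralizer_iff.1 h x (Set.mem_singleton x)

theorem mem_centralizer_singleton_of_commute {x y : G} (h : x * y = y * x) :
    y ∈ centralizer ({x} : Set G) :=
  mem_centralizer_iff.2 fun g hg => by rw [Set.mem_singleton_iff] at hg; rw [hg]; exact h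

theorem zpowers_le_centralizer {x : G} {A : Subgroup G} (h : x ∈ centralizer (A : Set G)) :
    A ≤ centralizer ((zpowers x : Subgroup G) : Set G) := by
  refine le_centralizer_iff.1 (zpowers_le.2 h)

/-- A product of commuting elementary abelian subgroups. -/
theorem ea_sup {r : ℕ} {A B : Subgroup G} (hA : IsElementaryAbelian r A)
    (hB : IsElementaryAbelian r B) (hAB : A ≤ centralizer (B : Set G)) :
    IsElementaryAbelian r (A ⊔ B) := by
  have hset : ((A ⊔ B : Subgroup G) : Set G) = (A : Set G) * (B : Set G) :=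
    coe_mul_of_left_le_normalizer_right A B (hAB.trans (centralizer_le_normalizer _))
  haveI := hA.1
  haveI := hB.1
  have hmem : ∀ x ∈ A ⊔ B, ∃ a ∈ A, ∃ b ∈ B, a * b = x := fun x hx => by
    have h1 : x ∈ ((A ⊔ B : Subgroup G) : Set G) := hx
    rw [hset] at h1
    exact h1
  have hc : ∀ a ∈ A, ∀ b ∈ B, Commute a b := fun a ha b hb =>
    (mem_centralizer_iff.1 (hAB ha) b hb).symm
  refine ⟨⟨⟨fun x y => Subtype.ext ?_⟩⟩, fun x hx => ?_⟩
  · obtain ⟨a, ha, b, hb, e⟩ := hmem x x.2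
    obtain ⟨a', ha', b', hb', e'⟩ := hmem y y.2
    show (x : G) * y = y * x
    rw [← e, ← e']
    refine (Commute.mul_left (Commute.mul_right ?_ (hc a ha b' hb'))
      (Commute.mul_right (hc a' ha' b hb).symm ?_)).eq
    · exact setLike_mul_comm ha ha'
    · exact setLike_mul_comm hb hb'
  · obtain ⟨a, ha, b, hb, e⟩ := hmem x hx
    rw [← e, (hc a ha b hb).mul_pow, hA.2 a ha, hB.2 b hb, one_mul]

theorem ea_zpowers {r : ℕ} {x : G} (h : x ^ r = 1) : IsElementaryAbelian r (zpowers x) := by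
  refine ⟨inferInstance, fun y hy => ?_⟩
  obtain ⟨i, rfl⟩ := mem_zpowers_iff.1 hy
  rw [← zpow_natCast, ← zpow_mul, mul_comm, zpow_mul, zpow_natCast, h, one_zpow]

theorem ea_mono {r : ℕ} {A B : Subgroup G} (h : A ≤ B) (hB : IsElementaryAbelian r B) :
    IsElementaryAbelian r A := by
  haveI := hB.1
  exact ⟨⟨⟨fun x y => Subtype.ext (setLike_mul_comm (h x.2) (h y.2))⟩⟩, fun a ha => hB.2 a (h ha)⟩

theorem ea_isPGroup {r : ℕ} {A : Subgroup G} (hA : IsElementaryAbelian r A) : IsPGroup r A :=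
  fun a => ⟨1, Subtype.ext (by rw [pow_one]; exact hA.2 a a.2)⟩

variable [Finite G]

theorem card_sup_of_commute {A B : Subgroup G} (hAB : A ≤ centralizer (B : Set G))
    (hd : A ⊓ B = ⊥) : Nat.card ↥(A ⊔ B) = Nat.card A * Nat.card B := by
  have hset : ((A ⊔ B : Subgroup G) : Set G) = (A : Set G) * (B : Set G) :=
    coe_mul_of_left_le_normalizer_right A B (hAB.trans (centralizer_le_normalizer _))
  rw [← Nat.card_prod]
  symm
  refine Nat.card_congr (Equiv.ofBijective
    (fun q : A × B => (⟨q.1 * q.2, mul_mem_sup q.1.2 q.2.2⟩ : ↥(A ⊔ B))) ⟨?_, ?_⟩)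
  · rintro ⟨a, b⟩ ⟨a', b'⟩ h
    have h' : (a : G) * b = a' * b' := congrArg Subtype.val h
    have h1 : (a' : G)⁻¹ * a = b' * (b : G)⁻¹ := by
      calc (a' : G)⁻¹ * a = (a' : G)⁻¹ * (a * b) * (b : G)⁻¹ := by group
        _ = b' * (b : G)⁻¹ := by rw [h']; group
    have h2 : (a' : G)⁻¹ * a ∈ A ⊓ B :=
      ⟨A.mul_mem (A.inv_mem a'.2) a.2, by rw [h1]; exact B.mul_mem b'.2 (B.inv_mem b.2)⟩
    rw [hd, mem_bot, inv_mul_eq_one] at h2
    have h3 : (b : G) = b' := by rw [← h2] at h'; exact mul_left_cancel h'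
    exact Prod.ext (Subtype.ext h2.symm) (Subtype.ext h3)
  · rintro ⟨x, hx⟩
    have h1 : x ∈ ((A ⊔ B : Subgroup G) : Set G) := hx
    rw [hset] at h1
    obtain ⟨a, ha, b, hb, e⟩ := h1
    exact ⟨(⟨a, ha⟩, ⟨b, hb⟩), Subtype.ext e⟩

/-- Adjoining an element whose square lies in the subgroup. -/
theorem mem_sup_zpowers_sq {B : Subgroup G} {x : G} (hN : x ∈ normalizer (B : Set G))
    (h2 : x * x ∈ B) {y : G} (hy : y ∈ B ⊔ zpowers x) : y ∈ B ∨ ∃ b ∈ B, b * x = y := by
  have hset : ((B ⊔ zpowers x : Subgroup G) : Set G) = (B : Set G) * (zpowers x : Set G) :=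
    coe_mul_of_right_le_normalizer_left B (zpowers x) (zpowers_le.2 hN)
  have h1 : y ∈ ((B ⊔ zpowers x : Subgroup G) : Set G) := hy
  rw [hset] at h1
  obtain ⟨b, hb, w, hw, rfl⟩ := h1
  obtain ⟨i, rfl⟩ := mem_zpowers_iff.1 hw
  have hsq : ∀ j : ℤ, x ^ (2 * j) ∈ B := fun j => by
    rw [zpow_mul, show x ^ (2 : ℤ) = x * x from zpow_two x]; exact zpow_mem h2 j
  rcases Int.even_or_odd' i with ⟨j, rfl | rfl⟩
  · exact Or.inl (mul_mem hb (hsq j))
  · refine Or.inr ⟨b * x ^ (2 * j), mul_mem hb (hsq j), ?_⟩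
    show b * x ^ (2 * j) * x = b * x ^ (2 * j + 1)
    rw [zpow_add, zpow_one, mul_assoc]

theorem card_sup_zpowers_sq {B : Subgroup G} {x : G} (hN : x ∈ normalizer (B : Set G))
    (h2 : x * x ∈ B) : Nat.card ↥(B ⊔ zpowers x) ≤ 2 * Nat.card B := by
  classical
  let f : B ⊕ B → ↥(B ⊔ zpowers x) := Sum.elim (fun b => ⟨b, mem_sup_left b.2⟩)
    (fun b => ⟨b * x, mul_mem_sup b.2 (mem_zpowers x)⟩)
  have hf : Function.Surjective f := by
    rintro ⟨y, hy⟩
    rcases mem_sup_zpowers_sq hN h2 hy with h | ⟨b, hb, h⟩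
    · exact ⟨Sum.inl ⟨y, h⟩, rfl⟩
    · exact ⟨Sum.inr ⟨b, hb⟩, Subtype.ext h⟩
  have := Nat.card_le_card_of_surjective f hf
  rw [Nat.card_sum] at this
  omega

theorem zpowers_inf_eq_bot_of_not_mem {p : ℕ} (hp : p.Prime) {x : G} {A : Subgroup G}
    (hx : x ^ p = 1) (hxA : x ∉ A) : A ⊓ zpowers x = ⊥ := by
  haveI := Fact.mk hp
  have ho : orderOf x = p := orderOf_eq_prime hx fun h => hxA (h ▸ one_mem A)
  have hd := card_dvd_of_le (inf_le_right : A ⊓ zpowers x ≤ zpowers x)
  rw [Nat.card_zpowers, ho] at hd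
  rcases (Nat.dvd_prime hp).1 hd with h | h
  · exact eq_bot_of_card_eq _ h
  · exfalso
    have := eq_of_le_of_card_ge (inf_le_right : A ⊓ zpowers x ≤ zpowers x)
      (by rw [Nat.card_zpowers, ho, h])
    exact hxA (mem_inf.1 (this.ge (mem_zpowers x))).1

/-- The order of `A⟨x⟩`, `x` of order `p` centralising `A` and outside it. -/
theorem ea_extend {p : ℕ} (hp : p.Prime) {A : Subgroup G} (hA : IsElementaryAbelian p A) {x : G}
    (hx : x ^ p = 1) (hxc : x ∈ centralizer (A : Set G)) (hxA : x ∉ A) :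
    IsElementaryAbelian p (A ⊔ zpowers x) ∧ Nat.card ↥(A ⊔ zpowers x) = Nat.card A * p := by
  haveI := Fact.mk hp
  refine ⟨ea_sup hA (ea_zpowers hx) (zpowers_le_centralizer hxc), ?_⟩
  rw [card_sup_of_commute (zpowers_le_centralizer hxc) (zpowers_inf_eq_bot_of_not_mem hp hx hxA),
    Nat.card_zpowers, orderOf_eq_prime hx fun h => hxA (h ▸ one_mem A)]

/-- An element of order prime to `p` centralising a subgroup `S` of the `p`-group `Q` with
`C_Q(S)` centralised as well centralises `Q`. -/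
theorem centralizes_of_self_centralizing {p : ℕ} [Fact p.Prime] {Q S : Subgroup G} {x : G}
    (hQ : IsPGroup p Q) (hxQ : x ∈ normalizer (Q : Set G)) (hcop : (orderOf x).Coprime p)
    (hS : S ≤ Q) (hxS : x ∈ centralizer (S : Set G))
    (hC : Q ⊓ centralizer (S : Set G) ≤ centralizer ({x} : Set G)) :
    x ∈ centralizer (Q : Set G) := by
  have h := Coprime.le_centralizer_of_prod (P := S) (Q := zpowers x) (G := Q) (hQ.to_le hS)
    (by rwa [Nat.card_zpowers]) (commutator_eq_bot_iff_le_centralizer.2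
      (zpowers_le_centralizer hxS)) hQ (hS.trans le_normalizer) (zpowers_le.2 hxQ) (by
      refine hC.trans fun y hy => ?_
      exact zpowers_le_centralizer (A := zpowers y)
        (mem_centralizer_iff.2 fun g hg => by
          obtain ⟨i, rfl⟩ := mem_zpowers_iff.1 hg
          exact ((show Commute x y from commute_of_mem_centralizer_singleton hy).zpow_right i).eq.symm)
        (mem_zpowers y))
  exact h (mem_zpowers x)

/-- An involution not centralising the odd order group `X` inverts a non-identity element. -/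
theorem exists_inverted {X : Subgroup G} {u : G} (hu : u * u = 1)
    (huX : u ∈ normalizer (X : Set G)) (hnot : ¬ X ≤ centralizer ({u} : Set G)) :
    ∃ x ∈ X, x ≠ 1 ∧ u * x * u⁻¹ = x⁻¹ := by
  obtain ⟨y, hy, hyu⟩ := SetLike.not_le_iff_exists.1 hnot
  refine ⟨y⁻¹ * (u * y * u⁻¹), mul_mem (inv_mem hy) ((mem_normalizer_iff.1 huX y).1 hy), ?_, ?_⟩
  · intro h
    refine hyu (mem_centralizer_singleton_of_commute ?_)
    rw [inv_mul_eq_one] at h
    nth_rewrite 2 [h]
    group
  · have hui : u⁻¹ = u := inv_eq_of_mul_eq_one_left hu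
    calc u * (y⁻¹ * (u * y * u⁻¹)) * u⁻¹ = u * y⁻¹ * u * y * (u⁻¹ * u⁻¹) := by group
      _ = u * y⁻¹ * u * y := by rw [hui, hu, mul_one]
      _ = (y⁻¹ * (u * y * u⁻¹))⁻¹ := by
        rw [hui, mul_inv_rev, mul_inv_rev, mul_inv_rev, hui, inv_inv, mul_assoc u y⁻¹ u]

/-- The same with an element of order `p`. -/
theorem exists_inverted_prime {p : ℕ} [Fact p.Prime] {X : Subgroup G} (hX : IsPGroup p X) {u : G}
    (hu : u * u = 1) (huX : u ∈ normalizer (X : Set G))
    (hnot : ¬ X ≤ centralizer ({u} : Set G)) :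
    ∃ x ∈ X, x ≠ 1 ∧ x ^ p = 1 ∧ u * x * u⁻¹ = x⁻¹ := by
  obtain ⟨x, hx, hx1, hxu⟩ := exists_inverted hu huX hnot
  obtain ⟨k, hk⟩ := IsPGroup.iff_orderOf.1 hX ⟨x, hx⟩
  rw [Subgroup.orderOf_mk] at hk
  cases k with
  | zero => exact absurd (orderOf_eq_one_iff.1 (by rw [hk, pow_zero])) hx1
  | succ k =>
    refine ⟨x ^ (p ^ k), pow_mem hx _, fun h => ?_, ?_, ?_⟩
    · have := Nat.le_of_dvd (pow_pos (Fact.out : p.Prime).pos _) (orderOf_dvd_of_pow_eq_one h)
      rw [hk] at this
      exact absurd this (not_le.2 (Nat.pow_lt_pow_right (Fact.out : p.Prime).one_lt k.lt_succ_self))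
    · rw [← pow_mul, ← pow_succ, ← hk, pow_orderOf_eq_one]
    · rw [← conj_pow, hxu, inv_pow]

/-- An element of odd order is not both fixed and inverted by conjugation. -/
theorem not_commute_of_inverted {p : ℕ} [Fact p.Prime] (hp : p ≠ 2) {x u : G} (hx1 : x ≠ 1)
    (hxp : x ^ p = 1) (hxu : u * x * u⁻¹ = x⁻¹) : ¬ u * x = x * u := by
  intro h
  rw [h, mul_inv_cancel_right] at hxu
  have h2 : x ^ 2 = 1 := by rw [sq]; nth_rewrite 1 [hxu]; exact inv_mul_cancel x
  have ho := orderOf_dvd_of_pow_eq_one h2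
  rw [orderOf_eq_prime hxp hx1] at ho
  exact hp ((Nat.prime_dvd_prime_iff_eq Fact.out Nat.prime_two).1 ho)

theorem coprime_two_of_isPGroup {p : ℕ} [Fact p.Prime] (hp : p ≠ 2) {A B : Subgroup G}
    (hA : IsPGroup 2 A) (hB : IsPGroup p B) : (Nat.card A).Coprime (Nat.card B) := by
  haveI : Fact (Nat.Prime 2) := ⟨Nat.prime_two⟩
  exact IsPGroup.coprime_card_of_ne 2 p (Ne.symm hp) A B hA hB

theorem closure_pair_le_four {u v : G} (hu : u * u = 1) (hv : v * v = 1) (huv : u * v = v * u)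
    {x : G} (hx : x ∈ closure ({u, v} : Set G)) : x = 1 ∨ x = u ∨ x = v ∨ x = u * v := by
  have hs : ∀ y ∈ ({u, v} : Set G), y * y = 1 := by
    rintro y (rfl | rfl)
    exacts [hu, hv]
  refine Subgroup.closure_induction (p := fun y _ => y = 1 ∨ y = u ∨ y = v ∨ y = u * v) ?_
    (Or.inl rfl) ?_ ?_ hx
  · rintro y (rfl | rfl) <;> simp
  · have h1 : u * (u * v) = v := by rw [← mul_assoc, hu, one_mul]
    have h2 : v * u = u * v := huv.symm
    have h3 : v * (u * v) = u := by rw [huv, ← mul_assoc, hv, one_mul]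
    have h4 : (u * v) * u = v := by rw [mul_assoc, h2, h1]
    have h5 : (u * v) * v = u := by rw [mul_assoc, hv, mul_one]
    have h6 : (u * v) * (u * v) = 1 := by rw [mul_assoc u v, h3, hu]
    rintro a b - - (rfl | rfl | rfl | rfl) (rfl | rfl | rfl | rfl) <;>
      simp [hu, hv, h1, h2, h3, h4, h5, h6]
  · rintro a - (rfl | rfl | rfl | rfl)
    · simp
    · right; left; exact inv_eq_of_mul_eq_one_left hu
    · right; right; left; exact inv_eq_of_mul_eq_one_left hv
    · right; right; right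
      rw [mul_inv_rev, inv_eq_of_mul_eq_one_left hu, inv_eq_of_mul_eq_one_left hv, huv]

/-- For an elementary abelian 2-group `U` acting on an odd `p`-group `X` and `w ∈ U` acting
nontrivially there is a complement `H` of `⟨w⟩` with `w` nontrivial on `C_X(H)`. -/
theorem exists_complement_moved {p : ℕ} [Fact p.Prime] (hp : p ≠ 2) {X U : Subgroup G}
    (hX : IsPGroup p X) (hU : IsElementaryAbelian 2 U) (hUX : U ≤ normalizer (X : Set G)) {w : G}
    (hw : w ∈ U) (hnot : ¬ X ≤ centralizer ({w} : Set G)) :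
    ∃ H : Subgroup G, H ≤ U ∧ w ∉ H ∧ (∀ v ∈ U, v ∈ H ∨ v * w ∈ H) ∧
      ¬ X ⊓ centralizer (H : Set G) ≤ centralizer ({w} : Set G) := by
  classical
  haveI := hU.1
  obtain ⟨H, ⟨hHU, hwH, hH⟩, hmax⟩ := Set.Finite.exists_maximal
    (Set.toFinite {H : Subgroup G | H ≤ U ∧ w ∉ H ∧
      ¬ X ⊓ centralizer (H : Set G) ≤ centralizer ({w} : Set G)})
    ⟨⊥, bot_le, fun h => hnot (by rw [mem_bot] at h; subst h; intro x _; exact
        mem_centralizer_singleton_of_commute (by simp)), fun h => hnot fun x hx => h ⟨hx,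
          mem_centralizer_iff.2 fun g hg => by rw [SetLike.mem_coe, mem_bot] at hg; simp [hg]⟩⟩
  refine ⟨H, hHU, hwH, fun v hv => ?_, hH⟩
  by_contra hv'
  push Not at hv'
  obtain ⟨hvH, hvwH⟩ := hv'
  have hsq : ∀ y ∈ U, y * y = 1 := fun y hy => by rw [← sq]; exact hU.2 y hy
  set X' := X ⊓ centralizer (H : Set G)
  have hbig : ∀ y ∈ U, y ∉ H → (y * w ∉ H) →
      X' ⊓ centralizer ({y} : Set G) ≤ centralizer ({w} : Set G) := by
    intro y hy hyH hywH
    have hyN : y ∈ normalizer (H : Set G) := centralizer_le_normalizer _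
      (mem_centralizer_iff.2 fun g hg => setLike_mul_comm (hHU hg) hy)
    have hwy : w ∉ H ⊔ zpowers y := by
      intro h
      rcases mem_sup_zpowers_sq hyN (by rw [hsq y hy]; exact one_mem H) h with h | ⟨b, hb, h⟩
      · exact hwH h
      · refine hywH ?_
        rw [← h, ← mul_assoc, setLike_mul_comm hy (hHU hb), mul_assoc, hsq y hy, mul_one]
        exact hb
    by_contra hcon
    refine hyH (hmax ⟨sup_le hHU (zpowers_le.2 hy), hwy, fun h => hcon fun x hx => h ⟨hx.1.1,
      mem_centralizer_iff.2 fun g hg => ?_⟩⟩ le_sup_left (mem_sup_right (mem_zpowers y)))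
    exact (mem_centralizer_iff.1 ((sup_le ((le_centralizer_iff (G := G)).1 (inf_le_right :
      X' ≤ centralizer (H : Set G)) |>.trans (centralizer_le (show ({x} : Set G) ⊆ X' from
        Set.singleton_subset_iff.2 hx.1))) (zpowers_le.2 (mem_centralizer_singleton_of_commute
        (commute_of_mem_centralizer_singleton hx.2).symm))) hg) x rfl).symm
  set A := closure ({v, w} : Set G)
  have hAU : A ≤ U := (closure_le U).2 (by rintro y (rfl | rfl); exacts [hv, hw])
  haveI : IsMulCommutative A := (ea_mono hAU hU).1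
  have hnc : ¬ IsCyclic A := by
    intro hcyc
    obtain ⟨g, hg⟩ := hcyc.exists_generator
    have hg2 : (g : G) * g = 1 := hsq _ (hAU g.2)
    have key : ∀ y ∈ A, y = 1 ∨ y = g := fun y hy => by
      obtain ⟨i, hi⟩ := mem_zpowers_iff.1 (hg ⟨y, hy⟩)
      have hi' : (g : G) ^ i = y := by rw [← Subgroup.coe_zpow, hi]
      have hs : ∀ j : ℤ, (g : G) ^ (2 * j) = 1 := fun j => by
        rw [zpow_mul, show (g : G) ^ (2 : ℤ) = (g : G) * g from zpow_two _, hg2, one_zpow]
      rcases Int.even_or_odd' i with ⟨j, rfl | rfl⟩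
      · left; rw [← hi', hs]
      · right; rw [← hi', zpow_add, hs, one_mul, zpow_one]
    have hv1 : v ≠ 1 := fun h => hvH (h ▸ one_mem H)
    have hw1 : w ≠ 1 := fun h => hwH (h ▸ one_mem H)
    have e1 := (key v (subset_closure (by simp))).resolve_left hv1
    have e2 := (key w (subset_closure (by simp))).resolve_left hw1
    exact hvwH (by rw [e1, e2, hg2]; exact one_mem H)
  have hAX : A ≤ normalizer (X' : Set G) := by
    refine le_trans (le_inf (hAU.trans hUX) ?_) inf_normalizer_le_normalizer_inf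
    refine le_normalizer_iff.2 fun y hy k hk => mem_centralizer_iff.2 fun g hg => ?_
    have hgy : Commute g y := setLike_mul_comm (hHU hg) (hAU hy)
    exact ((hgy.mul_right (mem_centralizer_iff.1 hk g hg)).mul_right hgy.inv_right).eq
  have hgen := Coprime.iSup_centralizer_singleton hnc hAX
    (coprime_two_of_isPGroup hp ((ea_isPGroup (ea_mono hAU hU))) (hX.to_le inf_le_left))
  refine hH (hgen.ge.trans (iSup₂_le fun y hy => ?_))
  obtain ⟨hyA, hy1⟩ := hy
  rcases closure_pair_le_four (hsq v hv) (hsq w hw) (setLike_mul_comm hv hw) hyA with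
    rfl | rfl | rfl | rfl
  · exact absurd rfl hy1
  · exact hbig y hv hvH hvwH
  · exact inf_le_right
  · refine hbig (v * w) (mul_mem hv hw) hvwH ?_
    rw [mul_assoc, hsq w hw, mul_one]
    exact hvH

/-- Hyperplane generation for an elementary abelian `p`-group acting on a 2-group. -/
theorem le_of_hyperplanes {p m : ℕ} [Fact p.Prime] (hp : p ≠ 2) {F T M : Subgroup G}
    (hF : IsElementaryAbelian p F) (hFc : Nat.card F = p ^ m) (hT : IsPGroup 2 T)
    (hFT : F ≤ normalizer (T : Set G))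
    (h : ∀ D ≤ F, Nat.card D = p ^ (m - 1) → T ⊓ centralizer (D : Set G) ≤ M) : T ≤ M := by
  haveI := hF.1
  refine (Coprime.iSup_centralizer_of_cyclic_quotient hFT
    (coprime_two_of_isPGroup hp hT (ea_isPGroup hF)).symm).ge.trans (iSup₂_le fun B hB => ?_)
  obtain ⟨hBF, a, ha, hBa⟩ := hB
  obtain ⟨j, hj⟩ := (hF |> ea_mono hBF |> ea_isPGroup).exists_card_eq
  have hjm : m - 1 ≤ j := by
    have hle : Nat.card F ≤ Nat.card B * p := by
      by_cases haB : a ∈ B
      · rw [← hBa, sup_eq_left.2 (zpowers_le.2 haB)]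
        exact Nat.le_mul_of_pos_right _ (Fact.out : p.Prime).pos
      · rw [← hBa, (ea_extend Fact.out (ea_mono hBF hF) (hF.2 a ha)
          (mem_centralizer_iff.2 fun g hg => setLike_mul_comm (hBF hg) ha) haB).2]
    rw [hFc, hj, ← pow_succ] at hle
    have := (Nat.pow_le_pow_iff_right (Fact.out : p.Prime).one_lt).1 hle
    omega
  obtain ⟨D', hD'⟩ := Sylow.exists_subgroup_card_pow_prime p
    (show p ^ (m - 1) ∣ Nat.card B by rw [hj]; exact pow_dvd_pow p hjm)
  refine le_trans (inf_le_inf_left _ (centralizer_le ?_))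
    (h (D'.map B.subtype) ((map_subtype_le _).trans hBF) (by rw [card_map_of_injective B.subtype_injective]; exact hD'))
  exact map_subtype_le _

/-- A moved hyperplane centralizer, different from a prescribed hyperplane. -/
theorem exists_moved_hyperplane {p m : ℕ} [Fact p.Prime] (hp : p ≠ 2) {F T D₁ : Subgroup G}
    (hF : IsElementaryAbelian p F) (hFc : Nat.card F = p ^ m) (hT : IsPGroup 2 T)
    (hFT : F ≤ normalizer (T : Set G)) (hD₁ : D₁ ≤ F)
    (hmov : ¬ T ≤ centralizer (D₁ : Set G)) :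
    ∃ D ≤ F, Nat.card D = p ^ (m - 1) ∧ D ≠ D₁ ∧
      ¬ T ⊓ centralizer (D : Set G) ≤ centralizer (F : Set G) := by
  by_contra hcon
  push Not at hcon
  refine hmov (le_of_hyperplanes hp hF hFc hT hFT fun D hD hDc => ?_)
  by_cases he : D = D₁
  · subst he; exact inf_le_right
  · exact (hcon D hD hDc he).trans (centralizer_le hD₁)

/-- Two distinct hyperplanes. -/
theorem hyperplane_inf {p m : ℕ} [Fact p.Prime] {F D₁ D₂ : Subgroup G}
    (hF : IsElementaryAbelian p F) (hFc : Nat.card F = p ^ m) (hm : 1 ≤ m) (hD₁ : D₁ ≤ F)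
    (hD₂ : D₂ ≤ F) (h1 : Nat.card D₁ = p ^ (m - 1)) (h2 : Nat.card D₂ = p ^ (m - 1))
    (hne : D₁ ≠ D₂) : D₁ ⊔ D₂ = F ∧ Nat.card ↥(D₁ ⊓ D₂) = p ^ (m - 2) ∧ 2 ≤ m := by
  haveI := hF.1
  have hp : p.Prime := Fact.out
  obtain ⟨a, ha, ha2⟩ := SetLike.not_le_iff_exists.1
    (fun h : D₁ ≤ D₂ => hne (eq_of_le_of_card_ge h (h2.trans h1.symm).le))
  have hpm : p ^ m = p ^ (m - 1) * p := by rw [← pow_succ]; congr 1; omega
  have hs : D₂ ⊔ zpowers a = F := by
    refine eq_of_le_of_card_ge (sup_le hD₂ (zpowers_le.2 (hD₁ ha))) (le_of_eq ?_)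
    rw [(ea_extend hp (ea_mono hD₂ hF) (hF.2 a (hD₁ ha))
      (mem_centralizer_iff.2 fun g hg => setLike_mul_comm (hD₂ hg) (hD₁ ha)) ha2).2, hFc, h2, hpm]
  have hD1eq : D₁ = (D₁ ⊓ D₂) ⊔ zpowers a := by
    refine le_antisymm (fun x hx => ?_) (sup_le inf_le_left (zpowers_le.2 ha))
    have hc : D₂ ≤ normalizer ((zpowers a : Subgroup G) : Set G) := fun d hd =>
      centralizer_le_normalizer _ (mem_centralizer_iff.2 fun g hg => by
        obtain ⟨i, rfl⟩ := mem_zpowers_iff.1 hg
        exact setLike_mul_comm (zpow_mem (hD₁ ha) i) (hD₂ hd))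
    have h' : x ∈ ((D₂ ⊔ zpowers a : Subgroup G) : Set G) := hs.ge (hD₁ hx)
    rw [coe_mul_of_left_le_normalizer_right _ _ hc] at h'
    obtain ⟨d, hd, w, hw, rfl⟩ := h'
    refine mul_mem_sup ⟨?_, hd⟩ hw
    have := mul_mem hx (inv_mem (zpowers_le.2 ha hw))
    rwa [mul_inv_cancel_right] at this
  have hc : Nat.card D₁ = Nat.card ↥(D₁ ⊓ D₂) * p := by
    conv_lhs => rw [hD1eq]
    exact (ea_extend hp (ea_mono (inf_le_left.trans hD₁) hF) (hF.2 a (hD₁ ha))
      (mem_centralizer_iff.2 fun g hg => setLike_mul_comm (hD₁ (mem_inf.1 hg).1) (hD₁ ha))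
      (fun h => ha2 (mem_inf.1 h).2)).2
  have hm2 : 2 ≤ m := by
    by_contra h
    rw [h1, show m - 1 = 0 by omega, pow_zero] at hc
    exact hp.ne_one (Nat.eq_one_of_dvd_one (Dvd.intro_left _ hc.symm))
  refine ⟨le_antisymm (sup_le hD₁ hD₂) ?_, ?_, hm2⟩
  · rw [← hs]
    exact sup_le le_sup_right (zpowers_le.2 (mem_sup_left ha))
  · rw [h1, show m - 1 = m - 2 + 1 by omega, pow_succ] at hc
    exact (Nat.eq_of_mul_eq_mul_right hp.pos hc).symm

end CfsgLib.KlingerMason
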