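import Cfsg.Agent.Lib.LocalEven.KlingerMason.Unit

/-!
The Klinger–Mason theorem: a group of local characteristic `p` (odd) and of characteristic 2 type
has 2-local `p`-rank at most 2.

For a `p`-group `E` of rank `m ≥ 3` normalising a 2-group, two minimal moved subgroups for two
hyperplanes generate a symplectic-type group centralised by a subgroup of order `p ^ (m - 2)`; it
contains either an elementary group of order 16, or (for `p = 3`) a four-group which turns out to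
be normalised and moved by another group of rank `m`. Both are impossible.
-/

set_option autoImplicit false
set_option linter.style.haveILetI false
set_option linter.unusedSectionVars false
set_option linter.style.show false

namespace CfsgLib.KlingerMason

open Subgroup Cfsg
open scoped Pointwise

variable {G : Type*} [Group G] [Finite G] {p m : ℕ}

theorem card_mul_card_le (A B : Subgroup G) :
    Nat.card A * Nat.card B ≤ Nat.card ↥(A ⊔ B) * Nat.card ↥(A ⊓ B) := by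
  have h1 : Nat.card ↥(A ⊓ B) * (A ⊓ B).relIndex B = Nat.card B := by
    rw [← relIndex_bot_left, ← relIndex_bot_left,
      relIndex_mul_relIndex _ _ _ bot_le inf_le_right]
  have h2 : Nat.card A * A.relIndex (A ⊔ B) = Nat.card ↥(A ⊔ B) := by
    rw [← relIndex_bot_left, ← relIndex_bot_left,
      relIndex_mul_relIndex _ _ _ bot_le le_sup_left]
  have h3 : (A ⊓ B).relIndex B ≤ A.relIndex (A ⊔ B) := by
    rw [inf_relIndex_right]
    exact relIndex_le_of_le_right le_sup_right index_ne_zero_of_finite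
  calc Nat.card A * Nat.card B = Nat.card A * (Nat.card ↥(A ⊓ B) * (A ⊓ B).relIndex B) := by
        rw [h1]
    _ ≤ Nat.card A * (Nat.card ↥(A ⊓ B) * A.relIndex (A ⊔ B)) :=
        Nat.mul_le_mul_left _ (Nat.mul_le_mul_left _ h3)
    _ = Nat.card ↥(A ⊔ B) * Nat.card ↥(A ⊓ B) := by rw [← h2]; ring

/-- Adjoin an involution to an elementary abelian subgroup with a large centraliser. -/
theorem SymplecticLike.extend {z : G} {P A : Subgroup G} (h : SymplecticLike (zpowers z) P)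
    (hz : z * z = 1) (hzA : z ∈ A) (hAP : A ≤ P) (hA : IsElementaryAbelian 2 A)
    (hbig : 8 * Nat.card A ≤ Nat.card ↥(P ⊓ centralizer (A : Set G))) :
    ∃ A' : Subgroup G, z ∈ A' ∧ A' ≤ P ∧ IsElementaryAbelian 2 A' ∧
      Nat.card A' = 2 * Nat.card A ∧
      Nat.card ↥(P ⊓ centralizer (A : Set G)) ≤ 2 * Nat.card ↥(P ⊓ centralizer (A' : Set G)) := by
  obtain ⟨e, he, heA, he2⟩ := h.exists_involution hz hzA hAP hA hbig
  obtain ⟨h1, h2⟩ := ea_extend Nat.prime_two hA (by rw [pow_two]; exact he2) he.2 heA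
  exact ⟨_, mem_sup_left hzA, sup_le hAP (zpowers_le.2 he.1), h1, by rw [h2, mul_comm],
    h.card_centralizer_sup hz hzA hAP hA he.1⟩

/-- No `p`-group of rank at least 3 normalises a nontrivial 2-subgroup. -/
theorem Setup.contradiction (S : Setup G p m) {E R : Subgroup G} (hE : IsElementaryAbelian p E)
    (hEc : Nat.card E = p ^ m) (hR : IsPGroup 2 R) (hR1 : R ≠ ⊥)
    (hER : E ≤ normalizer (R : Set G)) : False := by
  haveI := Fact.mk S.prime
  haveI : Fact (Nat.Prime 2) := ⟨Nat.prime_two⟩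
  haveI := hE.1
  have hm := S.three_le
  obtain ⟨T, hT, hRT, hET, hfaith⟩ := S.exists_core hE hR hR1 hER
  -- the central involution
  haveI : Nontrivial T := (nontrivial_iff_ne_bot _).2 fun h => hR1 (le_bot_iff.1 (h ▸ hRT))
  haveI := hT.center_nontrivial
  let Y : Subgroup G :=
    { carrier := {x | x ∈ T ⊓ centralizer (T : Set G) ∧ x * x = 1}
      one_mem' := ⟨one_mem _, one_mul 1⟩
      mul_mem' := fun {a b} ha hb => ⟨mul_mem ha.1 hb.1, by
        have hc : Commute b a := mem_centralizer_iff.1 ha.1.2 b hb.1.1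
        rw [hc.mul_mul_mul_comm, ha.2, hb.2, one_mul]⟩
      inv_mem' := fun {a} ha => ⟨inv_mem ha.1, by rw [← mul_inv_rev, ha.2, inv_one]⟩ }
  have hYe : IsElementaryAbelian 2 Y :=
    ⟨⟨⟨fun a b => Subtype.ext (mem_centralizer_iff.1 b.2.1.2 a a.2.1.1)⟩⟩,
      fun a ha => by rw [pow_two]; exact ha.2⟩
  have hEY : E ≤ normalizer (Y : Set G) := le_normalizer_iff.2 fun e he y hy =>
    ⟨(mem_normalizer_iff.1 (((le_inf hET (le_normalizer_centralizer_of_le_normalizer hET)).trans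
      inf_normalizer_le_normalizer_inf) he) y).1 hy.1, by
      calc e * y * e⁻¹ * (e * y * e⁻¹) = e * (y * y) * e⁻¹ := by group
        _ = 1 := by rw [hy.2, mul_one, mul_inv_cancel]⟩
  have hYE := S.no_moved hE hEc hYe hEY
  obtain ⟨z, hzY, hz1⟩ : ∃ z ∈ Y, z ≠ 1 := by
    obtain ⟨n, hn, hn'⟩ := (hT.to_subgroup (center T)).nontrivial_iff_card.1 inferInstance
    obtain ⟨i, hi⟩ := exists_prime_orderOf_dvd_card' 2 (hn' ▸ dvd_pow_self 2 hn.ne')
    refine ⟨((i : T) : G), ⟨⟨(i : T).2, mem_centralizer_iff.2 fun g hg =>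
      congrArg Subtype.val (mem_center_iff.1 i.2 ⟨g, hg⟩)⟩, ?_⟩, fun h => ?_⟩
    · rw [← pow_two, ← Subgroup.coe_pow, ← Subgroup.coe_pow, ← hi, pow_orderOf_eq_one, coe_one,
        coe_one]
    · rw [← orderOf_coe, ← orderOf_coe, h, orderOf_one] at hi; omega
  have hzT : z ∈ T := hzY.1.1
  have hz2 : z * z = 1 := hzY.2
  have hzE : z ∈ centralizer (E : Set G) := hYE hzY
  have hTz : T ≤ centralizer ((zpowers z : Subgroup G) : Set G) :=
    le_centralizer_iff.1 (zpowers_le.2 hzY.1.2)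
  have huniq : ∀ i ∈ T, i ∈ centralizer (E : Set G) → i * i = 1 → i ∈ zpowers z := by
    intro i hi hiE hi2
    by_contra hne
    obtain ⟨h1, h2⟩ := ea_extend Nat.prime_two (ea_zpowers (by rw [pow_two]; exact hz2))
      (by rw [pow_two]; exact hi2) (hTz hi) hne
    have := S.card_two_lt 0 hE hEc rfl (by omega) h1
      (sup_le (zpowers_le.2 hzE) (zpowers_le.2 hiE))
    rw [h2, Nat.card_zpowers, orderOf_eq_prime (p := 2) (by rw [pow_two]; exact hz2) hz1] at this
    omega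
  have X : ZGroup p m E T z := ⟨hE, hEc, hT, hET, hz2, hz1, hzT, hTz, hzE, huniq,
    fun V hVT hV hEV x hx => huniq x (hVT hx) (S.no_moved hE hEc hV hEV hx)
      (by rw [← pow_two]; exact hV.2 x hx)⟩
  -- the first unit
  have hnontriv : ∀ D : Subgroup G, 1 ≤ Nat.card D → Nat.card D = p ^ (m - 1) →
      ∃ d ∈ D, d ≠ 1 := by
    intro D _ hDc
    refine D.bot_or_exists_ne_one.resolve_left fun he => ?_
    rw [he, card_bot] at hDc
    exact (Nat.one_lt_pow (by omega) S.prime.one_lt).ne hDc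
  obtain ⟨D₁, hD₁, hD₁c, hmov₁⟩ : ∃ D ≤ E, Nat.card D = p ^ (m - 1) ∧
      ¬ T ⊓ centralizer (D : Set G) ≤ centralizer (E : Set G) := by
    by_contra h
    push Not at h
    have hTE := le_of_hyperplanes S.odd hE hEc hT hET h
    obtain ⟨e, he, he1⟩ : ∃ e ∈ E, e ≠ 1 := by
      refine E.bot_or_exists_ne_one.resolve_left fun he => ?_
      rw [he, card_bot] at hEc
      exact (Nat.one_lt_pow (by omega) S.prime.one_lt).ne hEc
    exact he1 (hfaith e he (le_centralizer_iff.1 hTE he))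
  obtain ⟨W₁, hW₁, hEW₁, hs₁, hf₁, hcase₁⟩ :=
    X.exists_unit S.prime S.odd (by omega) hD₁ hD₁c le_rfl hET hzT hmov₁
  -- the second one
  set T₁ := T ⊓ centralizer (W₁ : Set G)
  have hET₁ : E ≤ normalizer (T₁ : Set G) :=
    (le_inf hET (le_normalizer_centralizer_of_le_normalizer hEW₁)).trans
      inf_normalizer_le_normalizer_inf
  have hzT₁ : z ∈ T₁ := ⟨hzT, mem_centralizer_iff.2 fun g hg =>
    (mem_centralizer_iff.1 (hTz (hW₁.trans inf_le_left hg)) z (mem_zpowers z)).symm⟩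
  have hT₁mov : ¬ T₁ ≤ centralizer (D₁ : Set G) := by
    intro h
    obtain ⟨d, hd, hd1⟩ := hnontriv D₁ Nat.card_pos hD₁c
    have hsupc : W₁ ⊔ T₁ ≤ centralizer (D₁ : Set G) := sup_le (hW₁.trans inf_le_right) h
    refine hd1 (hfaith d (hD₁ hd) (centralizes_of_self_centralizing hT (hET (hD₁ hd)) ?_
      (sup_le (hW₁.trans inf_le_left) (inf_le_left : T₁ ≤ T))
      (le_centralizer_iff.1 hsupc hd) ?_))
    · exact Nat.Coprime.coprime_dvd_left (orderOf_dvd_of_pow_eq_one (hE.2 d (hD₁ hd)))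
        ((Nat.coprime_primes S.prime Nat.prime_two).2 S.odd)
    · intro y hy
      have hy' : y ∈ T₁ := ⟨hy.1, centralizer_le
        (show (W₁ : Set G) ⊆ ((W₁ ⊔ T₁ : Subgroup G) : Set G) from
          SetLike.coe_subset_coe.2 le_sup_left) hy.2⟩
      exact mem_centralizer_singleton_of_commute (mem_centralizer_iff.1 (h hy') d hd)
  obtain ⟨D₂, hD₂, hD₂c, hne, hmov₂⟩ :=
    exists_moved_hyperplane S.odd hE hEc (hT.to_le inf_le_left) hET₁ hD₁ hT₁mov
  obtain ⟨W₂, hW₂, hEW₂, hs₂, hf₂, hcase₂⟩ :=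
    X.exists_unit S.prime S.odd (by omega) hD₂ hD₂c inf_le_left hET₁ hzT₁ hmov₂
  have hcomm : W₁ ≤ centralizer (W₂ : Set G) :=
    le_centralizer_iff.1 (hW₂.trans (inf_le_left.trans inf_le_right))
  set P := W₁ ⊔ W₂
  have hP := hs₁.sup hs₂ hcomm
  obtain ⟨hsup, hKc, -⟩ := hyperplane_inf hE hEc (by omega) hD₁ hD₂ hD₁c hD₂c hne.symm
  set K := D₁ ⊓ D₂
  have hKE : K ≤ E := inf_le_left.trans hD₁
  have hK := ea_mono hKE hE
  have hPK : P ≤ centralizer (K : Set G) :=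
    sup_le ((hW₁.trans inf_le_right).trans (centralizer_le inf_le_left))
      ((hW₂.trans inf_le_right).trans (centralizer_le inf_le_right))
  have hinf : W₁ ⊓ W₂ ≤ zpowers z := by
    refine fun x hx => hf₁ ⟨hx.1, ?_⟩
    have : D₁ ⊔ D₂ ≤ centralizer ({x} : Set G) := sup_le
      (fun d hd => mem_centralizer_singleton_of_commute
        (mem_centralizer_iff.1 (hW₁ hx.1).2 d hd).symm)
      (fun d hd => mem_centralizer_singleton_of_commute
        (mem_centralizer_iff.1 (hW₂ hx.2).2 d hd).symm)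
    rw [hsup] at this
    exact mem_centralizer_iff.2 fun e he => (commute_of_mem_centralizer_singleton (this he)).symm
  have hcz : Nat.card (zpowers z) = 2 := by
    rw [Nat.card_zpowers, orderOf_eq_prime (p := 2) (by rw [pow_two]; exact hz2) hz1]
  rcases hcase₁ with ⟨hp3, hc₁, hq⟩ | ⟨hp3, hc₁⟩
  case inr =>
    rcases hcase₂ with ⟨hp3', -⟩ | ⟨-, hc₂⟩
    · exact hp3 hp3'
    -- an elementary abelian subgroup of order 16 centralising `K`
    have hPc : 512 ≤ Nat.card P := by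
      have h1 := card_mul_card_le W₁ W₂
      have h2 : Nat.card ↥(W₁ ⊓ W₂) ≤ 2 := (card_le_of_le hinf).trans hcz.le
      have h3 : 32 * 32 ≤ Nat.card W₁ * Nat.card W₂ := Nat.mul_le_mul hc₁ hc₂
      have h4 : Nat.card ↥(W₁ ⊔ W₂) * Nat.card ↥(W₁ ⊓ W₂) ≤ Nat.card ↥(W₁ ⊔ W₂) * 2 :=
        Nat.mul_le_mul_left _ h2
      show 512 ≤ Nat.card ↥(W₁ ⊔ W₂)
      omega
    have hA0 : IsElementaryAbelian 2 (zpowers z) := ea_zpowers (by rw [pow_two]; exact hz2)
    have hC0 : P ⊓ centralizer ((zpowers z : Subgroup G) : Set G) = P := inf_eq_left.2 hP.central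
    obtain ⟨A₁, hz₁, hA₁P, hA₁, hA₁c, hC₁⟩ :=
      hP.extend hz2 (mem_zpowers z) hP.le hA0 (by rw [hC0, hcz]; omega)
    rw [hC0] at hC₁
    rw [hcz] at hA₁c
    obtain ⟨A₂, hz₂, hA₂P, hA₂, hA₂c, hC₂⟩ :=
      hP.extend hz2 hz₁ hA₁P hA₁ (by omega)
    obtain ⟨A₃, -, hA₃P, hA₃, hA₃c, -⟩ := hP.extend hz2 hz₂ hA₂P hA₂ (by omega)
    have := S.card_two_lt 2 hK hKc (by omega) (by omega) hA₃ (hA₃P.trans hPK)
    omega
  rcases hcase₂ with ⟨-, hc₂, hr⟩ | ⟨hp3', -⟩
  case inr => exact hp3' hp3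
  subst hp3
  -- the endgame for `p = 3`
  obtain ⟨a₁, ha₁, ha₁'⟩ := SetLike.not_le_iff_exists.1
    (fun h : D₂ ≤ D₁ => hne (eq_of_le_of_card_ge h (hD₁c.trans hD₂c.symm).le))
  obtain ⟨a₂, ha₂, ha₂'⟩ := SetLike.not_le_iff_exists.1
    (fun h : D₁ ≤ D₂ => hne.symm (eq_of_le_of_card_ge h (hD₂c.trans hD₁c.symm).le))
  obtain ⟨q, hqW, hqZ⟩ := SetLike.not_le_iff_exists.1 (fun h : W₁ ≤ zpowers z => by
    have := card_le_of_le h
    omega)
  obtain ⟨r, hrW, hrZ⟩ := SetLike.not_le_iff_exists.1 (fun h : W₂ ≤ zpowers z => by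
    have := card_le_of_le h
    omega)
  obtain ⟨hq2, hqq', hq''⟩ := hq a₁ (hD₂ ha₁) ha₁' q hqW hqZ
  obtain ⟨hr2, hrr', hr''⟩ := hr a₂ (hD₁ ha₂) ha₂' r hrW hrZ
  set q' := a₁ * q * a₁⁻¹
  set r' := a₂ * r * a₂⁻¹
  have hq'W : q' ∈ W₁ := (mem_normalizer_iff.1 (hEW₁ (hD₂ ha₁)) q).1 hqW
  have hr'W : r' ∈ W₂ := (mem_normalizer_iff.1 (hEW₂ (hD₁ ha₂)) r).1 hrW
  -- anticommutation
  have anti : ∀ (W D : Subgroup G), SymplecticLike (zpowers z) W → ∀ a ∈ E, a ∉ D →
      (∀ b ∈ E, b ∉ D → ∀ y ∈ W, y ∉ zpowers z → y * y = z ∧ y⁻¹ * (b * y * b⁻¹) ∉ zpowers z ∧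
        (y * (b * y * b⁻¹))⁻¹ * (b * (b * y * b⁻¹) * b⁻¹) ∈ zpowers z) →
      ∀ y ∈ W, y ∉ zpowers z → a * y * a⁻¹ ∈ W →
      (a * y * a⁻¹) * (a * y * a⁻¹) = z ∧ y * (a * y * a⁻¹) ∉ zpowers z ∧
        (a * y * a⁻¹) * y = z * (y * (a * y * a⁻¹)) := by
    intro W D hW a ha haD hfacts y hy hyZ hy'
    obtain ⟨h1, h2, -⟩ := hfacts a ha haD y hy hyZ
    set y' := a * y * a⁻¹
    have hyy : y * y' ∉ zpowers z := fun h => h2 (by
      have := mul_mem (inv_mem (h1 ▸ mem_zpowers z : y * y ∈ zpowers z)) h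
      rwa [show (y * y)⁻¹ * (y * y') = y⁻¹ * y' by group] at this)
    have hy'2 : y' * y' = z := by
      calc y' * y' = a * (y * y) * a⁻¹ := by simp only [y']; group
        _ = z := by rw [h1, mem_centralizer_iff.1 hzE a ha, mul_inv_cancel_right]
    refine ⟨hy'2, hyy, ?_⟩
    have h := hW.mul_sq hy hy'
    rw [(hfacts a ha haD _ (mul_mem hy hy') hyy).1, h1, hy'2, hz2, mul_one] at h
    calc y' * y = (y' * y * y'⁻¹ * y⁻¹) * (y * y') := by group
      _ = z * (y * y') := by rw [← h]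
  obtain ⟨hq'2, hqq, hqa⟩ := anti W₁ D₁ hs₁ a₁ (hD₂ ha₁) ha₁' hq q hqW hqZ hq'W
  obtain ⟨hr'2, hrr, hra⟩ := anti W₂ D₂ hs₂ a₂ (hD₁ ha₂) ha₂' hr r hrW hrZ hr'W
  set c₁ := (q * q')⁻¹ * (a₁ * q' * a₁⁻¹) with hc₁def
  set c₂ := (r * r')⁻¹ * (a₂ * r' * a₂⁻¹) with hc₂def
  have hcc : ∀ x ∈ W₁, ∀ y ∈ W₂, Commute x y := fun x hx y hy =>
    (mem_centralizer_iff.1 (hcomm hx) y hy).symm
  have hzc : ∀ x ∈ P, ∀ c ∈ zpowers z, Commute c x := fun x hx c hc =>
    mem_centralizer_iff.1 (hP.central hx) c hc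
  have hW₁P : W₁ ≤ P := le_sup_left
  have hW₂P : W₂ ≤ P := le_sup_right
  set u := q * r
  set u' := q' * r'
  have huP : u ∈ P := mul_mem (hW₁P hqW) (hW₂P hrW)
  have hu'P : u' ∈ P := mul_mem (hW₁P hq'W) (hW₂P hr'W)
  have hu2 : u * u = 1 := by
    simp only [u]
    rw [(hcc q hqW r hrW).symm.mul_mul_mul_comm, hq2, hr2, hz2]
  have hu'2 : u' * u' = 1 := by
    simp only [u']
    rw [(hcc q' hq'W r' hr'W).symm.mul_mul_mul_comm, hq'2, hr'2, hz2]
  have huu : u' * u = u * u' := by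
    calc u' * u = (q' * q) * (r' * r) := (hcc q hqW r' hr'W).symm.mul_mul_mul_comm _ _
      _ = z * (q * q') * (z * (r * r')) := by rw [hqa, hra]
      _ = (z * z) * ((q * q') * (r * r')) :=
        (hzc _ (hW₁P (mul_mem hqW hq'W)) z (mem_zpowers z)).symm.mul_mul_mul_comm _ _
      _ = u * u' := by rw [hz2, one_mul]; exact (hcc q' hq'W r hrW).mul_mul_mul_comm _ _
  -- the element `h`
  set h := a₁ * a₂
  have hhE : h ∈ E := mul_mem (hD₂ ha₁) (hD₁ ha₂)
  have hh1 : ∀ x ∈ W₁, h * x * h⁻¹ = a₁ * x * a₁⁻¹ := fun x hx => by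
    calc h * x * h⁻¹ = a₁ * (a₂ * x * a₂⁻¹) * a₁⁻¹ := by simp only [h]; group
      _ = a₁ * x * a₁⁻¹ := by
        rw [mem_centralizer_iff.1 (hW₁ hx).2 a₂ ha₂, mul_inv_cancel_right]
  have hh2 : ∀ x ∈ W₂, h * x * h⁻¹ = a₂ * x * a₂⁻¹ := fun x hx => by
    have hc12 : a₁ * a₂ = a₂ * a₁ := setLike_mul_comm (hD₂ ha₁) (hD₁ ha₂)
    calc h * x * h⁻¹ = a₂ * (a₁ * x * a₁⁻¹) * a₂⁻¹ := by simp only [h]; rw [hc12]; group
      _ = a₂ * x * a₂⁻¹ := by
        rw [mem_centralizer_iff.1 (hW₂ hx).2 a₁ ha₁, mul_inv_cancel_right]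
  have hhu : h * u * h⁻¹ = u' := by
    calc h * u * h⁻¹ = (h * q * h⁻¹) * (h * r * h⁻¹) := by simp only [u]; group
      _ = u' := by rw [hh1 q hqW, hh2 r hrW]
  set c := c₁ * c₂
  have hc : c ∈ zpowers z := mul_mem hq'' hr''
  have hcP : c ∈ P := hP.le hc
  have hc2 : c * c = 1 := by
    rcases (mem_zpowers_involution hz2).1 hc with h' | h'
    · rw [h', one_mul]
    · rw [h', hz2]
  have hhu' : h * u' * h⁻¹ = u * u' * c := by
    calc h * u' * h⁻¹ = (h * q' * h⁻¹) * (h * r' * h⁻¹) := by simp only [u']; group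
      _ = (q * q' * c₁) * (r * r' * c₂) := by
        rw [hh1 q' hq'W, hh2 r' hr'W, hc₁def, hc₂def]; group
      _ = (q * q') * (r * r') * c :=
        (hzc _ (hW₂P (mul_mem hrW hr'W)) c₁ hq'').mul_mul_mul_comm _ _
      _ = u * u' * c := by
        rw [show (q * q') * (r * r') = u * u' from (hcc q' hq'W r hrW).mul_mul_mul_comm _ _]
  set v₁ := u * c
  set v₂ := u' * c
  have hhc : h * c * h⁻¹ = c := by
    rw [show h * c = c * h from mem_centralizer_iff.1 (zpowers_le.2 hzE hc) h hhE,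
      mul_inv_cancel_right]
  have hhv₁ : h * v₁ * h⁻¹ = v₂ := by
    calc h * v₁ * h⁻¹ = (h * u * h⁻¹) * (h * c * h⁻¹) := by simp only [v₁]; group
      _ = v₂ := by rw [hhu, hhc]
  have hv12 : v₁ * v₂ = u * u' := by
    rw [(hzc u' hu'P c hc).mul_mul_mul_comm, hc2, mul_one]
  have hhv₂ : h * v₂ * h⁻¹ = v₁ * v₂ := by
    calc h * v₂ * h⁻¹ = (h * u' * h⁻¹) * (h * c * h⁻¹) := by simp only [v₂]; group
      _ = u * u' := by rw [hhu', hhc, mul_assoc, hc2, mul_one]
      _ = v₁ * v₂ := hv12.symm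
  have hv₁2 : v₁ * v₁ = 1 := by
    rw [(hzc u huP c hc).mul_mul_mul_comm, hu2, hc2, one_mul]
  have hv₂2 : v₂ * v₂ = 1 := by
    rw [(hzc u' hu'P c hc).mul_mul_mul_comm, hu'2, hc2, one_mul]
  have hvv : v₁ * v₂ = v₂ * v₁ := by
    rw [hv12, (hzc u huP c hc).mul_mul_mul_comm, hc2, mul_one, huu]
  set U := zpowers v₁ ⊔ zpowers v₂
  have hv₂c : v₂ ∈ centralizer ((zpowers v₁ : Subgroup G) : Set G) :=
    mem_centralizer_iff.2 fun g hg => by
      obtain ⟨i, rfl⟩ := mem_zpowers_iff.1 hg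
      exact ((show Commute v₁ v₂ from hvv).zpow_left i).eq
  have hUe : IsElementaryAbelian 2 U :=
    ea_sup (ea_zpowers (by rw [pow_two]; exact hv₁2)) (ea_zpowers (by rw [pow_two]; exact hv₂2))
      (zpowers_le_centralizer hv₂c)
  have hUP : U ≤ P :=
    sup_le (zpowers_le.2 (mul_mem huP hcP)) (zpowers_le.2 (mul_mem hu'P hcP))
  have hhU : h ∈ normalizer (U : Set G) := by
    have hle : U ≤ U.comap (MulAut.conj h).toMonoidHom := by
      refine sup_le (zpowers_le.2 ?_) (zpowers_le.2 ?_)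
      · show h * v₁ * h⁻¹ ∈ U
        rw [hhv₁]; exact mem_sup_right (mem_zpowers _)
      · show h * v₂ * h⁻¹ ∈ U
        rw [hhv₂]; exact mul_mem_sup (mem_zpowers _) (mem_zpowers _)
    exact Coprime.mem_normalizer_of_conj_map_le fun x hx => hle hx
  -- `u`, `u'` and their product lie outside `⟨z⟩`
  have hout : ∀ x ∈ W₁, ∀ y ∈ W₂, x ∉ zpowers z → x * y ∉ zpowers z := by
    intro x hx y hy hxZ hxy
    refine hxZ (hinf ⟨hx, ?_⟩)
    have := mul_mem (hs₂.le hxy) (inv_mem hy)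
    rwa [mul_inv_cancel_right] at this
  have hqZ' : q' ∉ zpowers z := fun h' => hqZ (by
    have h1 : a₁⁻¹ * q' * a₁ = q' := by
      rw [mul_assoc, ← mem_centralizer_iff.1 (zpowers_le.2 hzE h') a₁ (hD₂ ha₁),
        inv_mul_cancel_left]
    have h2 : q = q' := by rw [← h1]; simp only [q']; group
    rwa [h2])
  have hu_out : u * u' ∉ zpowers z := by
    rw [show u * u' = (q * q') * (r * r') from (hcc q' hq'W r hrW).symm.mul_mul_mul_comm _ _]
    exact hout _ (mul_mem hqW hq'W) _ (mul_mem hrW hr'W) hqq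
  have hzU : z ∉ U := by
    intro hzU
    rcases mem_sup_zpowers_sq (centralizer_le_normalizer _ hv₂c)
      (by rw [hv₂2]; exact one_mem _) hzU with h' | ⟨b, hb, h'⟩
    · rcases (mem_zpowers_involution hv₁2).1 h' with h'' | h''
      · exact hz1 h''
      · refine hout q hqW r hrW hqZ ?_
        have := mul_mem (h'' ▸ mem_zpowers z : v₁ ∈ zpowers z) hc
        rwa [mul_assoc, hc2, mul_one] at this
    · rcases (mem_zpowers_involution hv₁2).1 hb with rfl | rfl
      · rw [one_mul] at h'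
        refine hout q' hq'W r' hr'W hqZ' ?_
        have := mul_mem (h' ▸ mem_zpowers z : v₂ ∈ zpowers z) hc
        rwa [mul_assoc, hc2, mul_one] at this
      · exact hu_out (hv12 ▸ h' ▸ mem_zpowers z)
  -- a complement on whose fixed points `z` is not trivial
  set U' := U ⊔ zpowers z
  have hU'e : IsElementaryAbelian 2 U' :=
    (ea_extend Nat.prime_two hUe (by rw [pow_two]; exact hz2)
      (mem_centralizer_iff.2 fun g hg => ((hzc g (hUP hg) z (mem_zpowers z))).symm.eq) hzU).1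
  have hU'P : U' ≤ P := sup_le hUP hP.le
  have hK1 : K ≠ ⊥ := fun h' => by
    rw [h', card_bot] at hKc
    exact (Nat.one_lt_pow (by omega) S.prime.one_lt).ne hKc
  obtain ⟨Q, hQ, hQK, hKQ, hfQ⟩ := S.exists_faithful hK hK1
  have hzK : z ∈ centralizer (K : Set G) := centralizer_le hKE hzE
  have hQz : ¬ Q ≤ centralizer ({z} : Set G) := fun h' => hz1 (hfQ z hzK
    ⟨1, by rw [pow_one, pow_two]; exact hz2⟩
    (mem_centralizer_iff.2 fun g hg => (commute_of_mem_centralizer_singleton (h' hg)).symm))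
  obtain ⟨H, -, -, hH2, hH⟩ := exists_complement_moved S.odd hQ hU'e
    (hU'P.trans (hPK.trans hKQ)) (mem_sup_right (mem_zpowers z)) hQz
  -- conjugation by `q` and `q'`
  have hconj_q : q * u * q⁻¹ = u ∧ q * u' * q⁻¹ = u' * z := by
    constructor
    · calc q * u * q⁻¹ = q * q * (r * q⁻¹) := by simp only [u]; group
        _ = q * q * (q⁻¹ * r) := by rw [(hcc q⁻¹ (inv_mem hqW) r hrW).eq]
        _ = u := by simp only [u]; group
    · have h1 : q * q' * q⁻¹ = z * q' := by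
        have : q * q' = z * (q' * q) := by rw [hqa, ← mul_assoc z z, hz2, one_mul]
        rw [this]; group
      calc q * u' * q⁻¹ = q * q' * (r' * q⁻¹) := by simp only [u']; group
        _ = q * q' * q⁻¹ * r' := by rw [← (hcc q⁻¹ (inv_mem hqW) r' hr'W).eq]; group
        _ = z * u' := by rw [h1, mul_assoc]
        _ = u' * z := (hzc u' hu'P z (mem_zpowers z)).eq
  have hconj_q' : q' * u * q'⁻¹ = u * z ∧ q' * u' * q'⁻¹ = u' := by
    constructor
    · have h1 : q' * q * q'⁻¹ = z * q := by rw [hqa, mul_assoc, mul_inv_cancel_right]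
      calc q' * u * q'⁻¹ = q' * q * (r * q'⁻¹) := by simp only [u]; group
        _ = q' * q * q'⁻¹ * r := by rw [← (hcc q'⁻¹ (inv_mem hq'W) r hrW).eq]; group
        _ = z * u := by rw [h1, mul_assoc]
        _ = u * z := (hzc u huP z (mem_zpowers z)).eq
    · calc q' * u' * q'⁻¹ = q' * q' * (r' * q'⁻¹) := by simp only [u']; group
        _ = q' * q' * (q'⁻¹ * r') := by rw [(hcc q'⁻¹ (inv_mem hq'W) r' hr'W).eq]
        _ = u' := by simp only [u']; group
  have hfixc : ∀ g ∈ P, ∀ x : G, ∀ w ∈ zpowers z, g * (x * w) * g⁻¹ = g * x * g⁻¹ * w := by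
    intro g hg x w hw
    calc g * (x * w) * g⁻¹ = g * x * (w * g⁻¹) := by group
      _ = g * x * (g⁻¹ * w) := by rw [(hzc g⁻¹ (inv_mem hg) w hw).eq]
      _ = g * x * g⁻¹ * w := by group
  obtain ⟨g, hgP, h₁, hh₁, h₂, hh₂, hg1, hg2⟩ : ∃ g ∈ P, ∃ h₁ ∈ H, ∃ h₂ ∈ H,
      g * h₁ * g⁻¹ = v₁ ∧ g * h₂ * g⁻¹ = v₂ := by
    have hqP := hW₁P hqW
    have hq'P := hW₁P hq'W
    have hzz := mem_zpowers z
    have kz : ∀ x, x * z * z = x := fun x => by rw [mul_assoc, hz2, mul_one]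
    have e1 : q * v₁ * q⁻¹ = v₁ := by rw [hfixc q hqP u c hc, hconj_q.1]
    have e2 : q * v₂ * q⁻¹ = v₂ * z := by
      rw [hfixc q hqP u' c hc, hconj_q.2, mul_assoc, (hzc c hcP z hzz).eq, ← mul_assoc]
    have e3 : q' * v₁ * q'⁻¹ = v₁ * z := by
      rw [hfixc q' hq'P u c hc, hconj_q'.1, mul_assoc, (hzc c hcP z hzz).eq, ← mul_assoc]
    have e4 : q' * v₂ * q'⁻¹ = v₂ := by rw [hfixc q' hq'P u' c hc, hconj_q'.2]
    rcases hH2 v₁ (mem_sup_left (mem_sup_left (mem_zpowers _))) with a1 | a1 <;>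
      rcases hH2 v₂ (mem_sup_left (mem_sup_right (mem_zpowers _))) with a2 | a2
    · exact ⟨1, one_mem _, _, a1, _, a2, by group, by group⟩
    · refine ⟨q, hqP, _, a1, _, a2, e1, ?_⟩
      rw [hfixc q hqP v₂ z hzz, e2, kz]
    · refine ⟨q', hq'P, _, a1, _, a2, ?_, e4⟩
      rw [hfixc q' hq'P v₁ z hzz, e3, kz]
    · refine ⟨q' * q, mul_mem hq'P hqP, _, a1, _, a2, ?_, ?_⟩
      · rw [show q' * q * (v₁ * z) * (q' * q)⁻¹ = q' * (q * (v₁ * z) * q⁻¹) * q'⁻¹ by group,
          hfixc q hqP v₁ z hzz, e1, hfixc q' hq'P v₁ z hzz, e3, kz]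
      · rw [show q' * q * (v₂ * z) * (q' * q)⁻¹ = q' * (q * (v₂ * z) * q⁻¹) * q'⁻¹ by group,
          hfixc q hqP v₂ z hzz, e2, kz, e4]
  obtain ⟨y, hy, hyz⟩ := SetLike.not_le_iff_exists.1 hH
  set X₀ := Q ⊓ centralizer (U : Set G)
  have hX₀z : ¬ X₀ ≤ centralizer ({z} : Set G) := by
    intro h'
    have hmem : g * y * g⁻¹ ∈ X₀ := by
      refine ⟨(mem_normalizer_iff.1 (hKQ (hPK hgP)) y).1 hy.1, ?_⟩
      have : U ≤ centralizer ({g * y * g⁻¹} : Set G) := sup_le
        (zpowers_le.2 (mem_centralizer_singleton_of_commute ?_))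
        (zpowers_le.2 (mem_centralizer_singleton_of_commute ?_))
      · exact mem_centralizer_iff.2 fun x hx =>
          (commute_of_mem_centralizer_singleton (this hx)).symm
      · rw [← hg1, show g * y * g⁻¹ * (g * h₁ * g⁻¹) = g * (y * h₁) * g⁻¹ by group,
          show g * h₁ * g⁻¹ * (g * y * g⁻¹) = g * (h₁ * y) * g⁻¹ by group,
          mem_centralizer_iff.1 hy.2 h₁ hh₁]
      · rw [← hg2, show g * y * g⁻¹ * (g * h₂ * g⁻¹) = g * (y * h₂) * g⁻¹ by group,
          show g * h₂ * g⁻¹ * (g * y * g⁻¹) = g * (h₂ * y) * g⁻¹ by group,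
          mem_centralizer_iff.1 hy.2 h₂ hh₂]
    refine hyz (mem_centralizer_singleton_of_commute ?_)
    have h1 := commute_of_mem_centralizer_singleton (h' hmem)
    have hgz : Commute z g := hzc g hgP z (mem_zpowers z)
    calc z * y = g⁻¹ * (z * (g * y * g⁻¹)) * g := by
          rw [← mul_assoc z, ← mul_assoc z, hgz.eq]; group
      _ = g⁻¹ * (g * y * g⁻¹ * z) * g := by rw [h1]
      _ = y * (g⁻¹ * (z * g)) := by group
      _ = y * z := by rw [hgz.eq, inv_mul_cancel_left]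
  have hhK : h ∈ centralizer (K : Set G) :=
    mem_centralizer_iff.2 fun x hx => setLike_mul_comm (hKE hx) hhE
  have hhX : h ∈ normalizer (X₀ : Set G) :=
    inf_normalizer_le_normalizer_inf ⟨hKQ hhK,
      le_normalizer_centralizer_of_le_normalizer (zpowers_le.2 hhU) (mem_zpowers h)⟩
  have hzUc : z ∈ centralizer (U : Set G) :=
    mem_centralizer_iff.2 fun x hx => (hzc x (hUP hx) z (mem_zpowers z)).symm.eq
  have hzX : z ∈ normalizer (X₀ : Set G) :=
    inf_normalizer_le_normalizer_inf ⟨hKQ hzK, le_normalizer hzUc⟩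
  have hzh : Commute z h := (mem_centralizer_iff.1 hzE h hhE).symm
  have hhc' : ¬ X₀ ⊓ centralizer ({h} : Set G) ≤ centralizer ({z} : Set G) := by
    intro hle
    have := Coprime.le_centralizer_of_prod (P := zpowers h) (Q := zpowers z) (G := X₀)
      (ea_isPGroup (ea_zpowers (hE.2 h hhE)))
      (by
        rw [Nat.card_zpowers, orderOf_eq_prime (p := 2) (by rw [pow_two]; exact hz2) hz1]
        decide)
      (commutator_eq_bot_iff_le_centralizer.2 (zpowers_le_centralizer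
        (mem_centralizer_iff.2 fun x hx => by
          obtain ⟨i, rfl⟩ := mem_zpowers_iff.1 hx
          exact (hzh.symm.zpow_left i).eq)))
      (hQ.to_le inf_le_left) (zpowers_le.2 hhX) (zpowers_le.2 hzX) (by
        intro x hx
        have h1 := hle ⟨hx.1, centralizer_le (Set.singleton_subset_iff.2 (mem_zpowers h)) hx.2⟩
        exact mem_centralizer_iff.2 fun w hw => by
          obtain ⟨i, rfl⟩ := mem_zpowers_iff.1 hw
          exact ((show Commute z x from commute_of_mem_centralizer_singleton h1).zpow_left i).eq)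
    exact hX₀z fun x hx =>
      mem_centralizer_singleton_of_commute (mem_centralizer_iff.1 (this (mem_zpowers z)) x hx).symm
  have hzX' : z ∈ normalizer ((X₀ ⊓ centralizer ({h} : Set G) : Subgroup G) : Set G) :=
    inf_normalizer_le_normalizer_inf ⟨hzX, le_normalizer
      (mem_centralizer_singleton_of_commute hzh.symm.eq)⟩
  obtain ⟨f, hf, hf1, hfp, hfz⟩ :=
    exists_inverted_prime ((hQ.to_le inf_le_left).to_le inf_le_left) hz2 hzX' hhc'
  have hfK : f ∉ K := fun h' => not_commute_of_inverted S.odd hf1 hfp hfz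
    (mem_centralizer_iff.1 hzK f h').symm
  obtain ⟨hF1, hF1c⟩ := ea_extend S.prime hK hfp (hQK hf.1.1) hfK
  have hhF : h ∈ centralizer ((K ⊔ zpowers f : Subgroup G) : Set G) := by
    have : K ⊔ zpowers f ≤ centralizer ({h} : Set G) := sup_le
      (fun x hx => mem_centralizer_singleton_of_commute (setLike_mul_comm hhE (hKE hx)))
      (zpowers_le.2 hf.2)
    exact mem_centralizer_iff.2 fun x hx => (commute_of_mem_centralizer_singleton (this hx)).symm
  have hFU : K ⊔ zpowers f ≤ centralizer (U : Set G) :=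
    sup_le (le_centralizer_iff.1 (hUP.trans hPK)) (zpowers_le.2 hf.1.2)
  have hhv : h * v₁ ≠ v₁ * h := by
    intro h'
    have h1 : v₂ = v₁ := by rw [← hhv₁, h', mul_inv_cancel_right]
    refine hu_out ?_
    rw [← hv12, h1, hv₁2]
    exact one_mem _
  have hv₁U : v₁ ∈ U := mem_sup_left (mem_zpowers _)
  have hhnF : h ∉ K ⊔ zpowers f := fun h' =>
    hhv (mem_centralizer_iff.1 (hFU h') v₁ hv₁U).symm
  obtain ⟨hF, hFc⟩ := ea_extend S.prime hF1 (hE.2 h hhE) hhF hhnF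
  rw [hF1c, hKc, ← pow_succ, ← pow_succ, show m - 2 + 1 + 1 = m by omega] at hFc
  have := S.no_moved hF hFc hUe
    (sup_le (hFU.trans (centralizer_le_normalizer _)) (zpowers_le.2 hhU))
  exact hhv (mem_centralizer_iff.1 (this hv₁U) h (mem_sup_right (mem_zpowers h)))

/-- **Klinger–Mason.** -/
theorem twoLocalPRankLE_two (hp : p.Prime) (hodd : p ≠ 2)
    (hGp : Cfsg.IsOfLocalCharacteristic p G) (hG2 : Cfsg.IsCharacteristicTwoType G) :
    Cfsg.TwoLocalPRankLE p 2 G := by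
  haveI := Fact.mk hp
  intro H hH A hAc hA
  by_contra hcon
  push Not at hcon
  obtain ⟨R, hR, hR1, rfl⟩ := hH
  set 𝒮 := {n : ℕ | ∃ F T : Subgroup G, IsElementaryAbelian p F ∧ Nat.card F = p ^ n ∧
    IsPGroup 2 T ∧ T ≠ ⊥ ∧ F ≤ normalizer (T : Set G)}
  have hA' : IsElementaryAbelian p A := ⟨hAc, hA⟩
  obtain ⟨n₀, hn₀⟩ := (ea_isPGroup hA').exists_card_eq
  have hmap : IsElementaryAbelian p (A.map (normalizer (R : Set G)).subtype) := by
    refine ⟨⟨⟨?_⟩⟩, ?_⟩
    · rintro ⟨_, x, hx, rfl⟩ ⟨_, y, hy, rfl⟩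
      have h := congrArg (fun w : A => ((w : ↥(normalizer (R : Set G))) : G))
        (hAc.is_comm.comm ⟨x, hx⟩ ⟨y, hy⟩)
      exact Subtype.ext h
    · rintro _ ⟨x, hx, rfl⟩
      rw [← map_pow, hA x hx, map_one]
  have hmem : n₀ ∈ 𝒮 := ⟨_, R, hmap, by
    rw [card_map_of_injective (normalizer (R : Set G)).subtype_injective, hn₀], hR, hR1,
    map_subtype_le _⟩
  have hfin : 𝒮.Finite := (Set.finite_le_nat (Nat.card G)).subset fun n hn => by
    obtain ⟨F, T, -, hFc, -⟩ := hn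
    exact (Nat.lt_pow_self hp.one_lt).le.trans (hFc ▸ Nat.le_of_dvd Nat.card_pos
      (card_subgroup_dvd_card F))
  obtain ⟨m, hmS, hmax⟩ := Set.exists_max_image 𝒮 id hfin ⟨n₀, hmem⟩
  have hm3 : 3 ≤ m := by
    have h1 : n₀ ≤ m := hmax n₀ hmem
    rw [hn₀] at hcon
    have := (Nat.pow_lt_pow_iff_right hp.one_lt).1 hcon
    omega
  have S : Setup G p m := ⟨hp, hodd, hGp, hG2, hm3, fun F T hF hT hT1 hFT => by
    obtain ⟨n, hn⟩ := (ea_isPGroup hF).exists_card_eq
    rw [hn]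
    exact Nat.pow_le_pow_right hp.pos (hmax n ⟨F, T, hF, hn, hT, hT1, hFT⟩)⟩
  obtain ⟨E, T, hE, hEc, hT, hT1, hET⟩ := hmS
  exact S.contradiction hE hEc hT hT1 hET

end CfsgLib.KlingerMason
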