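import Cfsg.Agent.Lib.LocalEven.KlingerMason.Basic

/-!
In a group of local characteristic `p` and characteristic 2 type whose 2-local `p`-rank is `m`,
a `p`-group of rank `m` normalises no elementary abelian 2-group nontrivially.
-/

set_option autoImplicit false
set_option linter.style.haveILetI false
set_option linter.unusedSectionVars false
set_option linter.style.show false

namespace CfsgLib.KlingerMason

open Subgroup Cfsg

variable {G : Type*} [Group G] [Finite G]

/-- The hypotheses: `m ≥ 3` bounds the `p`-rank of all 2-locals. -/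
structure Setup (G : Type*) [Group G] (p m : ℕ) : Prop where
  prime : p.Prime
  odd : p ≠ 2
  localP : Cfsg.IsOfLocalCharacteristic p G
  charTwo : Cfsg.IsCharacteristicTwoType G
  three_le : 3 ≤ m
  bound : ∀ F S : Subgroup G, IsElementaryAbelian p F → IsPGroup 2 S → S ≠ ⊥ →
    F ≤ normalizer (S : Set G) → Nat.card F ≤ p ^ m

variable {p m : ℕ}

theorem pCore_isPGroup' {X : Type*} [Group X] [Finite X] (q : ℕ) [Fact q.Prime] :
    IsPGroup q ↥(Cfsg.pCore q X) ∧ (Cfsg.pCore q X).Normal ∧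
      ∀ N : Subgroup X, N.Normal → IsPGroup q N → N ≤ Cfsg.pCore q X := by
  classical
  have key : ∀ s : Finset (Subgroup X), (∀ N ∈ s, N.Normal ∧ IsPGroup q N) →
      IsPGroup q ↥(s.sup id) ∧ (s.sup id).Normal := by
    intro s
    induction s using Finset.induction_on with
    | empty => intro _; exact ⟨IsPGroup.of_bot, inferInstanceAs (⊥ : Subgroup X).Normal⟩
    | insert N s _ ih =>
      intro h
      obtain ⟨h1, h2⟩ := ih fun M hM => h M (Finset.mem_insert_of_mem hM)
      obtain ⟨h4, h3⟩ := h N (Finset.mem_insert_self _ _)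
      rw [Finset.sup_insert]
      haveI := h2
      haveI := h4
      exact ⟨(show IsPGroup q N from h3).to_sup_of_normal_left h1,
        Subgroup.sup_normal N (s.sup id)⟩
  have hfin : {N : Subgroup X | N.Normal ∧ IsPGroup q N}.Finite := Set.toFinite _
  have e : Cfsg.pCore q X = hfin.toFinset.sup id := by
    rw [Finset.sup_id_eq_sSup, Set.Finite.coe_toFinset]; rfl
  obtain ⟨h1, h2⟩ := key hfin.toFinset fun N hN => hfin.mem_toFinset.1 hN
  refine ⟨e ▸ h1, e ▸ h2, fun N hN hNp => le_sSup ⟨hN, hNp⟩⟩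

/-- The core of a local subgroup, inside `G`. -/
theorem exists_local_core {q : ℕ} [Fact q.Prime] {D : Subgroup G} (hD : IsPGroup q D)
    (hloc : centralizer (Cfsg.pCore q ↥(normalizer (D : Set G)) : Set ↥(normalizer (D : Set G))) ≤
      Cfsg.pCore q ↥(normalizer (D : Set G))) :
    ∃ Q : Subgroup G, IsPGroup q Q ∧ D ≤ Q ∧ Q ≤ normalizer (D : Set G) ∧
      normalizer (D : Set G) ≤ normalizer (Q : Set G) ∧
      normalizer (D : Set G) ⊓ centralizer (Q : Set G) ≤ Q := by
  set N := normalizer (D : Set G)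
  obtain ⟨h1, h2, h3⟩ := pCore_isPGroup' (X := ↥N) q
  refine ⟨(Cfsg.pCore q ↥N).map N.subtype, h1.map _, fun d hd => ?_, map_subtype_le _, ?_, ?_⟩
  · exact ⟨⟨d, le_normalizer hd⟩, h3 (D.subgroupOf N) normal_in_normalizer
      (hD.of_equiv (subgroupOfEquivOfLe le_normalizer).symm) hd, rfl⟩
  · refine le_normalizer_iff.2 ?_
    rintro x hx _ ⟨k, hk, rfl⟩
    exact ⟨⟨x, hx⟩ * k * ⟨x, hx⟩⁻¹, h2.conj_mem k hk _, rfl⟩
  · intro x hx
    refine ⟨⟨x, hx.1⟩, hloc (mem_centralizer_iff.2 fun k hk => Subtype.ext ?_), rfl⟩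
    exact mem_centralizer_iff.1 hx.2 k ⟨k, hk, rfl⟩

/-- A `p`-local gives a `p`-group on which the 2-elements of `C(D)` act faithfully. -/
theorem Setup.exists_faithful (S : Setup G p m) {D : Subgroup G} (hD : IsElementaryAbelian p D)
    (hD1 : D ≠ ⊥) : ∃ Q : Subgroup G, IsPGroup p Q ∧ Q ≤ centralizer (D : Set G) ∧
      centralizer (D : Set G) ≤ normalizer (Q : Set G) ∧
      ∀ x ∈ centralizer (D : Set G), (∃ k : ℕ, x ^ (2 ^ k) = 1) → x ∈ centralizer (Q : Set G) →
        x = 1 := by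
  haveI := Fact.mk S.prime
  haveI := hD.1
  obtain ⟨Q, hQ, hDQ, hQN, hNQ, hC⟩ := exists_local_core (ea_isPGroup hD)
    (S.localP.2 D (ea_isPGroup hD) hD1)
  refine ⟨Q ⊓ centralizer (D : Set G), hQ.to_le inf_le_left, inf_le_right, ?_, ?_⟩
  · exact (le_inf ((centralizer_le_normalizer _).trans hNQ) le_normalizer).trans
      inf_normalizer_le_normalizer_inf
  · rintro x hxD ⟨k, hk⟩ hxQ
    have hcop : (orderOf x).Coprime p := by
      refine Nat.Coprime.coprime_dvd_left (orderOf_dvd_of_pow_eq_one hk) (Nat.Coprime.pow_left _ ?_)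
      exact (Nat.coprime_primes Nat.prime_two S.prime).2 (Ne.symm S.odd)
    have hxN : x ∈ normalizer (D : Set G) := centralizer_le_normalizer _ hxD
    have h1 := centralizes_of_self_centralizing hQ (hNQ hxN) hcop hDQ hxD
      fun y hy => mem_centralizer_singleton_of_commute (mem_centralizer_iff.1 hxQ y hy).symm
    obtain ⟨j, hj⟩ := IsPGroup.iff_orderOf.1 hQ ⟨x, hC ⟨hxN, h1⟩⟩
    rw [orderOf_mk] at hj
    exact orderOf_eq_one_iff.1 (Nat.eq_one_of_dvd_one
      ((hcop.pow_right j).symm.gcd_eq_one ▸ Nat.dvd_gcd (hj ▸ dvd_rfl) dvd_rfl))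

/-- The bound on elementary 2-groups centralising an elementary `p`-group of order `p ^ j`. -/
theorem Setup.card_two_lt (S : Setup G p m) : ∀ (k : ℕ) {j : ℕ} {D U : Subgroup G},
    IsElementaryAbelian p D → Nat.card D = p ^ j → j + k = m → 1 ≤ j →
    IsElementaryAbelian 2 U → U ≤ centralizer (D : Set G) → Nat.card U < 2 ^ (k + 2) := by
  haveI := Fact.mk S.prime
  haveI : Fact (Nat.Prime 2) := ⟨Nat.prime_two⟩
  intro k
  induction k with
  | zero => ?_
  | succ k ih => ?_
  all_goals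
    intro j D U hD hDc hjk hj hU hUD
    by_contra hcon
    push Not at hcon
    have hD1 : D ≠ ⊥ := fun h => by
      rw [h, card_bot] at hDc
      exact (Nat.one_lt_pow (by omega) S.prime.one_lt).ne hDc
    obtain ⟨Q, hQ, hQD, hDQ, hfaith⟩ := S.exists_faithful hD hD1
    obtain ⟨w, hw, hw1⟩ : ∃ w ∈ U, w ≠ 1 := by
      refine U.bot_or_exists_ne_one.resolve_left fun h => ?_
      rw [h, card_bot] at hcon
      exact absurd hcon (not_le.2 (Nat.one_lt_pow (by omega) one_lt_two))
    have hwsq : w * w = 1 := by rw [← sq]; exact hU.2 w hw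
    have hQw : ¬ Q ≤ centralizer ({w} : Set G) := fun h => hw1 (hfaith w (hUD hw)
      ⟨1, by rw [pow_one]; exact hU.2 w hw⟩
      (mem_centralizer_iff.2 fun g hg => (commute_of_mem_centralizer_singleton (h hg)).symm))
    obtain ⟨H, hHU, hwH, hH2, hH⟩ :=
      exists_complement_moved S.odd hQ hU (hUD.trans hDQ) hw hQw
    haveI := hU.1
    have hUle : U ≤ H ⊔ zpowers w := fun v hv => (hH2 v hv).elim (fun h => mem_sup_left h)
      fun h => by
        have := mul_mem_sup h (mem_zpowers w)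
        rwa [mul_assoc, hwsq, mul_one] at this
    have hwN : w ∈ normalizer (H : Set G) := centralizer_le_normalizer _
      (mem_centralizer_iff.2 fun g hg => setLike_mul_comm (hHU hg) hw)
    have hUcard : Nat.card U ≤ 2 * Nat.card H :=
      (card_le_of_le hUle).trans (card_sup_zpowers_sq hwN (by rw [hwsq]; exact one_mem H))
    have hwX : w ∈ normalizer ((Q ⊓ centralizer (H : Set G) : Subgroup G) : Set G) := by
      exact inf_normalizer_le_normalizer_inf ⟨hDQ (hUD hw), le_normalizer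
        (mem_centralizer_iff.2 fun g hg => setLike_mul_comm (hHU hg) hw)⟩
    obtain ⟨x, hx, hx1, hxp, hxw⟩ :=
      exists_inverted_prime (hQ.to_le inf_le_left) hwsq hwX hH
    have hxD : x ∉ D := fun h => not_commute_of_inverted S.odd hx1 hxp hxw
      (mem_centralizer_iff.1 (hUD hw) x h).symm
    obtain ⟨hD', hD'c⟩ := ea_extend S.prime hD hxp (hQD hx.1) hxD
    rw [hDc, ← pow_succ] at hD'c
    have hHD' : H ≤ centralizer ((D ⊔ zpowers x : Subgroup G) : Set G) :=
      le_centralizer_iff.1 (sup_le (le_centralizer_iff.1 (hHU.trans hUD))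
        (zpowers_le.2 hx.2))
  · have hH1 : H ≠ ⊥ := fun h => by
      rw [h, card_bot] at hUcard
      omega
    have := S.bound _ H hD' ((ea_isPGroup hU).to_le hHU) hH1
      ((le_centralizer_iff.1 hHD').trans (centralizer_le_normalizer _))
    rw [hD'c] at this
    have := (Nat.pow_le_pow_iff_right S.prime.one_lt).1 this
    omega
  · have := ih hD' hD'c (by omega) (by omega) (ea_mono hHU hU) hHD'
    rw [pow_succ] at hcon
    omega

/-- The 2-core of a 2-local normalised by `F`, on which `F` is faithful. -/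
theorem Setup.exists_core (S : Setup G p m) {F R : Subgroup G} (hF : IsElementaryAbelian p F)
    (hR : IsPGroup 2 R) (hR1 : R ≠ ⊥) (hFR : F ≤ normalizer (R : Set G)) :
    ∃ T : Subgroup G, IsPGroup 2 T ∧ R ≤ T ∧ F ≤ normalizer (T : Set G) ∧
      ∀ f ∈ F, f ∈ centralizer (T : Set G) → f = 1 := by
  haveI : Fact (Nat.Prime 2) := ⟨Nat.prime_two⟩
  obtain ⟨T, hT, hRT, -, hN, hC⟩ := exists_local_core hR (S.charTwo.2 R hR hR1)
  refine ⟨T, hT, hRT, hFR.trans hN, fun f hf hfc => ?_⟩
  obtain ⟨j, hj⟩ := IsPGroup.iff_orderOf.1 hT ⟨f, hC ⟨hFR hf, hfc⟩⟩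
  rw [orderOf_mk] at hj
  have h1 : orderOf f ∣ p := orderOf_dvd_of_pow_eq_one (hF.2 f hf)
  have hcop : (orderOf f).Coprime p := by
    rw [hj]; exact Nat.Coprime.pow_left _ ((Nat.coprime_primes Nat.prime_two S.prime).2 (Ne.symm S.odd))
  exact orderOf_eq_one_iff.1 (hcop.eq_one_of_dvd h1)

/-- A moved elementary 2-subgroup of the centraliser of a hyperplane is a four-group without
fixed points. -/
theorem Setup.four_of_moved (S : Setup G p m) {F D V : Subgroup G} (hF : IsElementaryAbelian p F)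
    (hD : D ≤ F) (hDc : Nat.card D = p ^ (m - 1)) (hV : IsElementaryAbelian 2 V)
    (hVD : V ≤ centralizer (D : Set G)) (hFV : F ≤ normalizer (V : Set G))
    (hmov : ¬ V ≤ centralizer (F : Set G)) :
    Nat.card V = 4 ∧ V ⊓ centralizer (F : Set G) = ⊥ := by
  haveI : Fact (Nat.Prime 2) := ⟨Nat.prime_two⟩
  haveI := hV.1
  have h8 := S.card_two_lt 1 (ea_mono hD hF) hDc (by have := S.three_le; omega)
    (by have := S.three_le; omega) hV hVD
  obtain ⟨y, hy, hyF⟩ := SetLike.not_le_iff_exists.1 hmov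
  obtain ⟨f, hf, hne⟩ : ∃ f ∈ F, f * y * f⁻¹ ≠ y := by
    by_contra h
    push Not at h
    exact hyF (mem_centralizer_iff.2 fun f hf => mul_inv_eq_iff_eq_mul.1 (h f hf))
  set y' := f * y * f⁻¹
  have hy' : y' ∈ V := (mem_normalizer_iff.1 (hFV hf) y).1 hy
  have hy1 : y ≠ 1 := fun h => hne (by simp [y', h])
  have hy'1 : y' ≠ 1 := fun h => hy1 (conj_eq_one_iff.1 h)
  classical
  haveI := Fintype.ofFinite V
  obtain ⟨n, hn⟩ := (ea_isPGroup hV).exists_card_eq
  have hn2 : n ≤ 2 := by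
    have : 2 ^ n < 2 ^ 3 := by rw [← hn]; exact h8
    have := (Nat.pow_lt_pow_iff_right one_lt_two).1 this
    omega
  have h3 : 3 ≤ Nat.card V := by
    rw [Nat.card_eq_fintype_card]
    have : ({1, ⟨y, hy⟩, ⟨y', hy'⟩} : Finset V).card = 3 := by
      rw [Finset.card_insert_of_notMem, Finset.card_pair]
      · exact fun h => hne (congrArg Subtype.val h).symm
      · simp [Subtype.ext_iff, Ne.symm hy1, Ne.symm hy'1]
    exact this ▸ Finset.card_le_univ _
  have hcard : Nat.card V = 4 := by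
    rw [hn] at h3 ⊢
    interval_cases n <;> simp_all
  refine ⟨hcard, ?_⟩
  by_contra hb
  obtain ⟨v, hv, hv1⟩ := (V ⊓ centralizer (F : Set G)).bot_or_exists_ne_one.resolve_left hb
  have hfv : f * v = v * f := mem_centralizer_iff.1 hv.2 f hf
  have hvy : v ≠ y := fun h => hne (mul_inv_eq_iff_eq_mul.2 (h ▸ hfv))
  have hvy' : v ≠ y' := by
    intro h
    refine hvy ?_
    have : v = f⁻¹ * v * f := by rw [mul_assoc, ← hfv, inv_mul_cancel_left]
    rw [this, h]
    simp only [y']
    group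
  have hsq : ∀ z ∈ V, z * z = 1 := fun z hz => by rw [← sq]; exact hV.2 z hz
  -- four elements `1, v, y, v * y` exhaust `V`
  have h4 : y' = v * y := by
    by_contra hne4
    have : ({1, ⟨v, hv.1⟩, ⟨y, hy⟩, ⟨y', hy'⟩, ⟨v, hv.1⟩ * ⟨y, hy⟩} : Finset V).card = 5 := by
      rw [Finset.card_insert_of_notMem, Finset.card_insert_of_notMem,
        Finset.card_insert_of_notMem, Finset.card_pair]
      · exact fun h => hne4 (congrArg Subtype.val h)
      · simp only [Finset.mem_insert, Finset.mem_singleton, Subtype.ext_iff, Subgroup.coe_mul]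
        rintro (h | h)
        · exact hne h.symm
        · exact hv1 (right_eq_mul.1 h)
      · simp only [Finset.mem_insert, Finset.mem_singleton, Subtype.ext_iff, Subgroup.coe_mul]
        rintro (h | h | h)
        · exact hvy h
        · exact hvy' h
        · exact hy1 (left_eq_mul.1 h)
      · simp only [Finset.mem_insert, Finset.mem_singleton, Subtype.ext_iff, Subgroup.coe_mul,
          Subgroup.coe_one]
        rintro (h | h | h | h)
        · exact hv1 h.symm
        · exact hy1 h.symm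
        · exact hy'1 h.symm
        · exact hvy (by
            have h' : v * (v * y) = v := by rw [← h, mul_one]
            rwa [← mul_assoc, hsq v hv.1, one_mul, eq_comm] at h')
    have hle := Finset.card_le_univ ({1, ⟨v, hv.1⟩, ⟨y, hy⟩, ⟨y', hy'⟩, ⟨v, hv.1⟩ * ⟨y, hy⟩} :
      Finset V)
    rw [this, ← Nat.card_eq_fintype_card, hcard] at hle
    omega
  -- iterate the element `f` of order `p`
  have hiter : ∀ i : ℕ, f ^ i * y * (f ^ i)⁻¹ = v ^ i * y := by
    intro i
    induction i with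
    | zero => simp
    | succ i ih =>
      have hc : Commute f (v ^ i) := (show Commute f v from hfv).pow_right i
      calc f ^ (i + 1) * y * (f ^ (i + 1))⁻¹ = f * (f ^ i * y * (f ^ i)⁻¹) * f⁻¹ := by
            rw [pow_succ']; group
        _ = (f * v ^ i) * y * f⁻¹ := by rw [ih]; group
        _ = v ^ i * y' := by rw [hc.eq]; simp only [y']; group
        _ = v ^ (i + 1) * y := by rw [h4, pow_succ, mul_assoc]
  have h := hiter p
  rw [hF.2 f hf, one_mul, inv_one, mul_one, eq_comm, mul_eq_right] at h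
  obtain ⟨k, hk⟩ := S.prime.odd_of_ne_two S.odd
  rw [hk, pow_succ, pow_mul, sq, hsq v hv.1, one_pow, one_mul] at h
  exact hv1 h

/-- A group of order `p ^ m` normalises no elementary 2-group nontrivially. -/
theorem Setup.no_moved (S : Setup G p m) {F U : Subgroup G} (hF : IsElementaryAbelian p F)
    (hFc : Nat.card F = p ^ m) (hU : IsElementaryAbelian 2 U) (hFU : F ≤ normalizer (U : Set G)) :
    U ≤ centralizer (F : Set G) := by
  haveI := Fact.mk S.prime
  haveI : Fact (Nat.Prime 2) := ⟨Nat.prime_two⟩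
  have hm := S.three_le
  by_contra hcon
  obtain ⟨D₁, hD₁, hD₁c, hV⟩ : ∃ D ≤ F, Nat.card D = p ^ (m - 1) ∧
      ¬ U ⊓ centralizer (D : Set G) ≤ centralizer (F : Set G) := by
    by_contra h
    push Not at h
    exact hcon (le_of_hyperplanes S.odd hF hFc (ea_isPGroup hU) hFU h)
  haveI := hF.1
  set V := U ⊓ centralizer (D₁ : Set G)
  have hVe : IsElementaryAbelian 2 V := ea_mono inf_le_left hU
  have hFC : ∀ D : Subgroup G, D ≤ F → F ≤ normalizer ((centralizer (D : Set G) : Subgroup G) : Set G) := by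
    intro D hD
    refine le_normalizer_iff.2 fun f hf k hk => mem_centralizer_iff.2 fun g hg => ?_
    have hgf : Commute g f := setLike_mul_comm (hD hg) hf
    exact ((hgf.mul_right (mem_centralizer_iff.1 hk g hg)).mul_right hgf.inv_right).eq
  have hFV : F ≤ normalizer (V : Set G) :=
    (le_inf hFU (hFC D₁ hD₁)).trans inf_normalizer_le_normalizer_inf
  obtain ⟨hV4, hVfix⟩ := S.four_of_moved hF hD₁ hD₁c hVe inf_le_right hFV hV
  have hV1 : V ≠ ⊥ := fun h => by rw [h, card_bot] at hV4; omega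
  obtain ⟨T, hT, hVT, hFT, hfaith⟩ := S.exists_core hF (ea_isPGroup hVe) hV1 hFV
  set T₁ := T ⊓ centralizer (V : Set G)
  haveI := hVe.1
  have hVT₁ : V ≤ T₁ := le_inf hVT fun v hv =>
    mem_centralizer_iff.2 fun g hg => setLike_mul_comm hg hv
  have hFT₁ : F ≤ normalizer (T₁ : Set G) := by
    refine (le_inf hFT ?_).trans inf_normalizer_le_normalizer_inf
    refine le_normalizer_iff.2 fun f hf k hk => mem_centralizer_iff.2 fun g hg => ?_
    have h1 : f⁻¹ * g * f ∈ V := (mem_normalizer_iff''.1 (hFV hf) g).1 hg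
    calc g * (f * k * f⁻¹) = f * ((f⁻¹ * g * f) * k) * f⁻¹ := by group
      _ = f * (k * (f⁻¹ * g * f)) * f⁻¹ := by rw [mem_centralizer_iff.1 hk _ h1]
      _ = f * k * f⁻¹ * g := by group
  have hT₁mov : ¬ T₁ ≤ centralizer (D₁ : Set G) := by
    intro h
    obtain ⟨d, hd, hd1⟩ : ∃ d ∈ D₁, d ≠ 1 := by
      refine D₁.bot_or_exists_ne_one.resolve_left fun he => ?_
      rw [he, card_bot] at hD₁c
      exact (Nat.one_lt_pow (by omega) S.prime.one_lt).ne hD₁c
    refine hd1 (hfaith d (hD₁ hd) (centralizes_of_self_centralizing hT (hFT (hD₁ hd)) ?_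
      (inf_le_left : T₁ ≤ T) (mem_centralizer_iff.2 fun g hg =>
        (mem_centralizer_iff.1 (h hg) d hd).symm) ?_))
    · exact Nat.Coprime.coprime_dvd_left (orderOf_dvd_of_pow_eq_one (hF.2 d (hD₁ hd)))
        ((Nat.coprime_primes S.prime Nat.prime_two).2 S.odd)
    · intro y hy
      have hy' : y ∈ T₁ := ⟨hy.1, centralizer_le hVT₁ hy.2⟩
      exact mem_centralizer_singleton_of_commute (mem_centralizer_iff.1 (h hy') d hd)
  have hT₁fix : T₁ ⊓ centralizer (F : Set G) = ⊥ := by
    by_contra hb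
    have hP : IsPGroup 2 ↥(T₁ ⊓ centralizer (F : Set G)) := hT.to_le (inf_le_left.trans inf_le_left)
    haveI : Nontrivial ↥(T₁ ⊓ centralizer (F : Set G)) := (nontrivial_iff_ne_bot _).2 hb
    obtain ⟨n, hn, hn'⟩ := hP.nontrivial_iff_card.1 inferInstance
    obtain ⟨i, hi⟩ := exists_prime_orderOf_dvd_card' 2 (hn' ▸ dvd_pow_self 2 hn.ne')
    have hi' : (i : G) ^ 2 = 1 := by
      rw [← Subgroup.coe_pow, ← hi, pow_orderOf_eq_one, coe_one]
    have hiV : (i : G) ∉ V := fun h => by
      have h1 : (i : G) = 1 := by rw [← mem_bot, ← hVfix]; exact ⟨h, i.2.2⟩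
      rw [← orderOf_coe, h1, orderOf_one] at hi; omega
    obtain ⟨hE, hEc⟩ := ea_extend Nat.prime_two hVe hi' i.2.1.2 hiV
    have := S.card_two_lt 1 (ea_mono hD₁ hF) hD₁c (by omega) (by omega) hE
      (sup_le inf_le_right (zpowers_le.2 (centralizer_le hD₁ i.2.2)))
    rw [hEc, hV4] at this
    omega
  obtain ⟨D₂, hD₂, hD₂c, hne, hT₂mov⟩ :=
    exists_moved_hyperplane S.odd hF hFc (hT.to_le inf_le_left) hFT₁ hD₁ hT₁mov
  set T₂ := T₁ ⊓ centralizer (D₂ : Set G)
  have hT₂1 : T₂ ≠ ⊥ := fun h => hT₂mov (by rw [h]; exact bot_le)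
  set Z := T₂ ⊓ centralizer (T₂ : Set G)
  haveI hZc : IsMulCommutative Z :=
    ⟨⟨fun a b => Subtype.ext ((mem_centralizer_iff.1 b.2.2 a a.2.1))⟩⟩
  let V₂ : Subgroup G :=
    { carrier := {x | x ∈ Z ∧ x ^ 2 = 1}
      one_mem' := ⟨one_mem _, one_pow 2⟩
      mul_mem' := fun {a b} ha hb => ⟨mul_mem ha.1 hb.1, by
        rw [(show Commute a b from setLike_mul_comm ha.1 hb.1).mul_pow, ha.2, hb.2, one_mul]⟩
      inv_mem' := fun {a} ha => ⟨inv_mem ha.1, by rw [inv_pow, ha.2, inv_one]⟩ }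
  have hV₂e : IsElementaryAbelian 2 V₂ :=
    ⟨⟨⟨fun a b => Subtype.ext (setLike_mul_comm a.2.1 b.2.1)⟩⟩, fun a ha => ha.2⟩
  have hFT₂ : F ≤ normalizer (T₂ : Set G) :=
    (le_inf hFT₁ (hFC D₂ hD₂)).trans inf_normalizer_le_normalizer_inf
  have hFV₂ : F ≤ normalizer (V₂ : Set G) := by
    refine le_normalizer_iff.2 fun f hf k hk => ?_
    refine ⟨⟨(mem_normalizer_iff.1 (hFT₂ hf) k).1 hk.1.1, mem_centralizer_iff.2 fun g hg => ?_⟩, ?_⟩
    · have h1 : f⁻¹ * g * f ∈ T₂ := (mem_normalizer_iff''.1 (hFT₂ hf) g).1 hg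
      calc g * (f * k * f⁻¹) = f * ((f⁻¹ * g * f) * k) * f⁻¹ := by group
        _ = f * (k * (f⁻¹ * g * f)) * f⁻¹ := by rw [mem_centralizer_iff.1 hk.1.2 _ h1]
        _ = f * k * f⁻¹ * g := by group
    · rw [conj_pow, hk.2, mul_one, mul_inv_cancel]
  have hV₂1 : V₂ ≠ ⊥ := by
    have hP2 : IsPGroup 2 T₂ := hT.to_le (inf_le_left.trans inf_le_left)
    haveI : Nontrivial T₂ := (nontrivial_iff_ne_bot _).2 hT₂1
    haveI := hP2.center_nontrivial
    obtain ⟨n, hn, hn'⟩ := (hP2.to_subgroup (center T₂)).nontrivial_iff_card.1 inferInstance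
    obtain ⟨i, hi⟩ := exists_prime_orderOf_dvd_card' 2 (hn' ▸ dvd_pow_self 2 hn.ne')
    intro h
    have hmem : ((i : T₂) : G) ∈ V₂ := by
      refine ⟨⟨(i : T₂).2, mem_centralizer_iff.2 fun g hg => ?_⟩, ?_⟩
      · exact congrArg Subtype.val (mem_center_iff.1 i.2 ⟨g, hg⟩)
      · rw [← Subgroup.coe_pow, ← Subgroup.coe_pow, ← hi, pow_orderOf_eq_one, coe_one, coe_one]
    rw [h, mem_bot] at hmem
    rw [← orderOf_coe, ← orderOf_coe, hmem, orderOf_one] at hi; omega
  have hV₂mov : ¬ V₂ ≤ centralizer (F : Set G) := fun h => hV₂1 (by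
    rw [eq_bot_iff, ← hT₁fix]
    exact fun x hx => ⟨hx.1.1.1, h hx⟩)
  obtain ⟨hV₂4, hV₂fix⟩ := S.four_of_moved hF hD₂ hD₂c hV₂e
    (fun x hx => hx.1.1.2) hFV₂ hV₂mov
  obtain ⟨hsup, hKc, -⟩ := hyperplane_inf hF hFc (by omega) hD₁ hD₂ hD₁c hD₂c hne.symm
  have hcomm : V₂ ≤ centralizer (V : Set G) := fun x hx => hx.1.1.1.2
  have hdisj : V₂ ⊓ V = ⊥ := by
    rw [eq_bot_iff, ← hVfix]
    refine fun x hx => ⟨hx.2, ?_⟩
    have : D₁ ⊔ D₂ ≤ centralizer ({x} : Set G) := sup_le
      (fun d hd => mem_centralizer_singleton_of_commute (mem_centralizer_iff.1 hx.2.2 d hd).symm)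
      (fun d hd => mem_centralizer_singleton_of_commute
        (mem_centralizer_iff.1 hx.1.1.1.2 d hd).symm)
    rw [hsup] at this
    exact mem_centralizer_iff.2 fun f hf => (commute_of_mem_centralizer_singleton (this hf)).symm
  have := S.card_two_lt 2 (ea_mono (inf_le_left.trans hD₁) hF) hKc (by omega) (by omega)
    (ea_sup hV₂e hVe hcomm) (sup_le
      ((fun x hx => centralizer_le inf_le_right hx.1.1.2) : V₂ ≤ _)
      ((inf_le_right : V ≤ _).trans (centralizer_le inf_le_left)))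
  rw [card_sup_of_commute hcomm hdisj, hV₂4, hV4] at this
  omega

end CfsgLib.KlingerMason
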