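import Cfsg.Agent.Lib.LocalEven.KlingerMason.Rank

/-!
Groups with all squares and commutators in a central subgroup `⟨z⟩` of order 2, and the minimal
moved subgroups of the centraliser of a hyperplane.
-/

set_option autoImplicit false
set_option linter.style.haveILetI false
set_option linter.unusedSectionVars false
set_option linter.style.show false

namespace CfsgLib.KlingerMason

open Subgroup Cfsg
open scoped Pointwise

variable {G : Type*} [Group G] [Finite G]

theorem le_normalizer_centralizer {E D : Subgroup G} (hEc : IsMulCommutative E) (hD : D ≤ E) :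
    E ≤ normalizer ((centralizer (D : Set G) : Subgroup G) : Set G) := fun _ he =>
  le_normalizer (mem_centralizer_iff.2 fun _ hg => setLike_mul_comm (hD hg) he)

theorem le_normalizer_centralizer_of_le_normalizer {E V : Subgroup G}
    (h : E ≤ normalizer (V : Set G)) :
    E ≤ normalizer ((centralizer (V : Set G) : Subgroup G) : Set G) := by
  refine le_normalizer_iff.2 fun f hf k hk => mem_centralizer_iff.2 fun g hg => ?_
  have h1 : f⁻¹ * g * f ∈ V := (mem_normalizer_iff''.1 (h hf) g).1 hg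
  calc g * (f * k * f⁻¹) = f * ((f⁻¹ * g * f) * k) * f⁻¹ := by group
    _ = f * (k * (f⁻¹ * g * f)) * f⁻¹ := by rw [mem_centralizer_iff.1 hk _ h1]
    _ = f * k * f⁻¹ * g := by group

/-- All squares and commutators of `W` lie in `Z`, a central subgroup. -/
structure SymplecticLike (Z W : Subgroup G) : Prop where
  le : Z ≤ W
  central : W ≤ centralizer (Z : Set G)
  sq : ∀ x ∈ W, x * x ∈ Z
  comm : ∀ x ∈ W, ∀ y ∈ W, x * y * x⁻¹ * y⁻¹ ∈ Z

theorem SymplecticLike.le_normalizer_of_le {Z W : Subgroup G} (h : SymplecticLike Z W)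
    {B : Subgroup G} (hZB : Z ≤ B) (hBW : B ≤ W) : W ≤ normalizer (B : Set G) := by
  refine le_normalizer_iff.2 fun w hw b hb => ?_
  have := mul_mem (hZB (h.comm w hw b (hBW hb))) hb
  rwa [inv_mul_cancel_right] at this

theorem SymplecticLike.sup {Z W₁ W₂ : Subgroup G} (h₁ : SymplecticLike Z W₁)
    (h₂ : SymplecticLike Z W₂) (hc : W₁ ≤ centralizer (W₂ : Set G)) :
    SymplecticLike Z (W₁ ⊔ W₂) := by
  have hset : ((W₁ ⊔ W₂ : Subgroup G) : Set G) = (W₁ : Set G) * (W₂ : Set G) :=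
    coe_mul_of_left_le_normalizer_right _ _ (hc.trans (centralizer_le_normalizer _))
  have hmem : ∀ x ∈ W₁ ⊔ W₂, ∃ a ∈ W₁, ∃ b ∈ W₂, a * b = x := fun x hx => by
    have h1 : x ∈ ((W₁ ⊔ W₂ : Subgroup G) : Set G) := hx
    rw [hset] at h1
    exact h1
  have hcc : ∀ a ∈ W₁, ∀ b ∈ W₂, Commute a b := fun a ha b hb =>
    (mem_centralizer_iff.1 (hc ha) b hb).symm
  refine ⟨h₁.le.trans le_sup_left, sup_le h₁.central h₂.central, fun x hx => ?_,
    fun x hx y hy => ?_⟩
  · obtain ⟨a, ha, b, hb, rfl⟩ := hmem x hx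
    rw [(hcc a ha b hb).symm.mul_mul_mul_comm]
    exact mul_mem (h₁.sq a ha) (h₂.sq b hb)
  · obtain ⟨a, ha, b, hb, rfl⟩ := hmem x hx
    obtain ⟨a', ha', b', hb', rfl⟩ := hmem y hy
    have e : a * b * (a' * b') * (a * b)⁻¹ * (a' * b')⁻¹ =
        (a * a' * a⁻¹ * a'⁻¹) * (b * b' * b⁻¹ * b'⁻¹) := by
      have h3 : (a * b)⁻¹ = a⁻¹ * b⁻¹ := by
        rw [(hcc a ha b hb).eq, mul_inv_rev]
      have h4 : (a' * b')⁻¹ = a'⁻¹ * b'⁻¹ := by
        rw [(hcc a' ha' b' hb').eq, mul_inv_rev]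
      rw [h3, h4, (hcc a' ha' b hb).symm.mul_mul_mul_comm,
        ((hcc a⁻¹ (inv_mem ha) (b * b') (mul_mem hb hb')).symm).mul_mul_mul_comm,
        ((hcc a'⁻¹ (inv_mem ha') (b * b' * b⁻¹) (mul_mem (mul_mem hb hb') (inv_mem hb))).symm).mul_mul_mul_comm]
    rw [e]
    exact mul_mem (h₁.comm a ha a' ha') (h₂.comm b hb b' hb')

theorem mem_zpowers_involution {z x : G} (hz : z * z = 1) :
    x ∈ zpowers z ↔ x = 1 ∨ x = z := by
  constructor
  · intro h
    rcases mem_sup_zpowers_sq (B := (⊥ : Subgroup G)) (x := z)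
      (by rw [mem_normalizer_iff]; simp) (by simp [hz]) (mem_sup_right h) with h | ⟨b, hb, h⟩
    · exact Or.inl (mem_bot.1 h)
    · rw [mem_bot] at hb; subst hb; rw [one_mul] at h; exact Or.inr h.symm
  · rintro (rfl | rfl)
    exacts [one_mem _, mem_zpowers _]

theorem SymplecticLike.mul_sq {z : G} {W : Subgroup G} (h : SymplecticLike (zpowers z) W) {x y : G}
    (hx : x ∈ W) (hy : y ∈ W) :
    (x * y) * (x * y) = (y * x * y⁻¹ * x⁻¹) * ((x * x) * (y * y)) := by
  have hc : Commute (y * x * y⁻¹ * x⁻¹) x :=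
    mem_centralizer_iff.1 (h.central hx) _ (h.comm y hy x hx)
  calc (x * y) * (x * y) = x * (y * x * y⁻¹ * x⁻¹) * (x * (y * y)) := by group
    _ = (y * x * y⁻¹ * x⁻¹) * x * (x * (y * y)) := by rw [hc.eq]
    _ = (y * x * y⁻¹ * x⁻¹) * ((x * x) * (y * y)) := by group

/-- An elementary abelian subgroup with a large centraliser extends by an involution. -/
theorem SymplecticLike.exists_involution {z : G} {W A : Subgroup G}
    (h : SymplecticLike (zpowers z) W) (hz : z * z = 1) (hzA : z ∈ A) (hAW : A ≤ W)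
    (hA : IsElementaryAbelian 2 A)
    (hbig : 8 * Nat.card A ≤ Nat.card ↥(W ⊓ centralizer (A : Set G))) :
    ∃ e ∈ W ⊓ centralizer (A : Set G), e ∉ A ∧ e * e = 1 := by
  by_contra hcon
  push Not at hcon
  set C := W ⊓ centralizer (A : Set G)
  haveI := hA.1
  have hZA : zpowers z ≤ A := zpowers_le.2 hzA
  have hAC : A ≤ C := le_inf hAW fun a ha =>
    mem_centralizer_iff.2 fun g hg => setLike_mul_comm hg ha
  have hsqz : ∀ x ∈ C, x ∉ A → x * x = z := fun x hx hxA =>
    ((mem_zpowers_involution hz).1 (h.sq x hx.1)).resolve_left (hcon x hx hxA)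
  have hpos : 0 < Nat.card A := Nat.card_pos
  have step : ∀ B : Subgroup G, A ≤ B → B ≤ C → Nat.card B < Nat.card C →
      ∃ x ∈ C, x ∉ B ∧ Nat.card ↥(B ⊔ zpowers x) ≤ 2 * Nat.card B ∧ B ⊔ zpowers x ≤ C := by
    intro B hAB hBC hlt
    obtain ⟨x, hx, hxB⟩ := SetLike.not_le_iff_exists.1 fun hle : C ≤ B =>
      absurd (card_le_of_le hle) (not_le.2 hlt)
    refine ⟨x, hx, hxB, card_sup_zpowers_sq
      (h.le_normalizer_of_le (hZA.trans hAB) (hBC.trans inf_le_left) hx.1)
      ((hZA.trans hAB) (h.sq x hx.1)), sup_le hBC (zpowers_le.2 hx)⟩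
  obtain ⟨x, hx, hxA, hc1, hle1⟩ := step A le_rfl hAC (by omega)
  obtain ⟨y, hy, hyB, hc2, hle2⟩ := step _ le_sup_left hle1 (by omega)
  obtain ⟨w, hw, hwB, -, -⟩ := step _ (le_sup_left.trans le_sup_left) hle2 (by omega)
  -- three elements whose squares and those of their products are `z`
  have hxy : x * y ∉ A := fun h' => hyB (by
    have := mul_mem (inv_mem (mem_sup_right (mem_zpowers x) : x ∈ A ⊔ zpowers x)) (mem_sup_left h')
    rwa [inv_mul_cancel_left] at this)
  have hxw : x * w ∉ A := fun h' => hwB (mem_sup_left (by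
    have := mul_mem (inv_mem (mem_sup_right (mem_zpowers x) : x ∈ A ⊔ zpowers x)) (mem_sup_left h')
    rwa [inv_mul_cancel_left] at this))
  have hyw : y * w ∉ A := fun h' => hwB (by
    have := mul_mem (inv_mem (mem_sup_right (mem_zpowers y) : y ∈ A ⊔ zpowers x ⊔ zpowers y))
      (mem_sup_left (mem_sup_left h'))
    rwa [inv_mul_cancel_left] at this)
  have hxyw : x * y * w ∉ A := fun h' => hwB (by
    have := mul_mem (inv_mem (mul_mem (mem_sup_left (mem_sup_right (mem_zpowers x)))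
      (mem_sup_right (mem_zpowers y)) : x * y ∈ A ⊔ zpowers x ⊔ zpowers y))
      (mem_sup_left (mem_sup_left h'))
    rwa [inv_mul_cancel_left] at this)
  have hyA : y ∉ A := fun h' => hyB (mem_sup_left h')
  have hwA : w ∉ A := fun h' => hwB (mem_sup_left (mem_sup_left h'))
  -- so any two of `x, y, w` and `x * y, w` anticommute
  have anti : ∀ a b : G, a ∈ C → b ∈ C → a ∉ A → b ∉ A → a * b ∉ A →
      b * a * b⁻¹ * a⁻¹ = z := by
    intro a b ha hb haA hbA habA
    have := h.mul_sq ha.1 hb.1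
    rw [hsqz a ha haA, hsqz b hb hbA, hsqz _ (mul_mem ha hb) habA, hz, mul_one] at this
    exact this.symm
  have e1 := anti x w hx hw hxA hwA hxw
  have e2 := anti y w hy hw hyA hwA hyw
  have e3 := anti (x * y) w (mul_mem hx hy) hw hxy hwA hxyw
  have hzx : Commute z x := mem_centralizer_iff.1 (h.central hx.1) z (mem_zpowers z)
  have : w * (x * y) * w⁻¹ * (x * y)⁻¹ = 1 := by
    calc w * (x * y) * w⁻¹ * (x * y)⁻¹
        = (w * x * w⁻¹ * x⁻¹) * x * (w * y * w⁻¹ * y⁻¹) * x⁻¹ := by group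
      _ = z * x * z * x⁻¹ := by rw [e1, e2]
      _ = z * (x * z) * x⁻¹ := by group
      _ = 1 := by rw [← hzx.eq, ← mul_assoc z z, hz, one_mul, mul_inv_cancel]
  rw [this] at e3
  subst e3
  exact hcon x hx hxA (hsqz x hx hxA)

/-- Adjoining the involution at most halves the centraliser. -/
theorem SymplecticLike.card_centralizer_sup {z : G} {W A : Subgroup G}
    (h : SymplecticLike (zpowers z) W) (hz : z * z = 1) (hzA : z ∈ A) (hAW : A ≤ W)
    (hA : IsElementaryAbelian 2 A) {e : G} (he : e ∈ W) :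
    Nat.card ↥(W ⊓ centralizer (A : Set G)) ≤
      2 * Nat.card ↥(W ⊓ centralizer ((A ⊔ zpowers e : Subgroup G) : Set G)) := by
  set C := W ⊓ centralizer (A : Set G)
  set C' := W ⊓ centralizer ((A ⊔ zpowers e : Subgroup G) : Set G)
  haveI := hA.1
  have hmem : ∀ c ∈ C, c * e = e * c → c ∈ C' := fun c hc hce => ⟨hc.1, by
    have : A ⊔ zpowers e ≤ centralizer ({c} : Set G) := sup_le
      (fun a ha => mem_centralizer_singleton_of_commute (mem_centralizer_iff.1 hc.2 a ha).symm)
      (zpowers_le.2 (mem_centralizer_singleton_of_commute hce))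
    exact mem_centralizer_iff.2 fun g hg => (commute_of_mem_centralizer_singleton (this hg)).symm⟩
  have hzC' : zpowers z ≤ C' := zpowers_le.2 (hmem z
    ⟨h.le (mem_zpowers z), mem_centralizer_iff.2 fun a ha => setLike_mul_comm ha hzA⟩
    (mem_centralizer_iff.1 (h.central he) z (mem_zpowers z)))
  by_cases hall : ∀ c ∈ C, c * e = e * c
  · exact (card_le_of_le fun c hc => hmem c hc (hall c hc)).trans (Nat.le_mul_of_pos_left _ two_pos)
  push Not at hall
  obtain ⟨c₀, hc₀, hne⟩ := hall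
  have hcz : ∀ c ∈ C, c * e ≠ e * c → c * e = z * (e * c) := fun c hc hne' => by
    rcases (mem_zpowers_involution hz).1 (h.comm c hc.1 e he) with h1 | h1
    · exfalso; apply hne'
      calc c * e = (c * e * c⁻¹ * e⁻¹) * (e * c) := by group
        _ = e * c := by rw [h1, one_mul]
    · calc c * e = (c * e * c⁻¹ * e⁻¹) * (e * c) := by group
        _ = z * (e * c) := by rw [h1]
  have hN : c₀ ∈ normalizer (C' : Set G) := h.le_normalizer_of_le hzC' inf_le_left hc₀.1
  have hsq : c₀ * c₀ ∈ C' := hzC' (h.sq c₀ hc₀.1)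
  refine (card_le_of_le fun c hc => ?_).trans (card_sup_zpowers_sq hN hsq)
  by_cases hce : c * e = e * c
  · exact mem_sup_left (hmem c hc hce)
  · have hcz' := hcz c hc hce
    have hc₀z := hcz c₀ hc₀ hne
    have hz0 : Commute z c₀ := mem_centralizer_iff.1 (h.central hc₀.1) z (mem_zpowers z)
    have hze : Commute z e := mem_centralizer_iff.1 (h.central he) z (mem_zpowers z)
    have hzc : Commute z c := mem_centralizer_iff.1 (h.central hc.1) z (mem_zpowers z)
    have h1 : c * c₀ * e = e * (c * c₀) := by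
      calc c * c₀ * e = c * (c₀ * e) := mul_assoc _ _ _
        _ = (c * z) * (e * c₀) := by rw [hc₀z, mul_assoc]
        _ = z * ((c * e) * c₀) := by rw [← hzc.eq, mul_assoc, mul_assoc]
        _ = (z * z) * (e * c * c₀) := by rw [hcz', mul_assoc z, ← mul_assoc z z]
        _ = e * (c * c₀) := by rw [hz, one_mul, mul_assoc]
    have h2 := mul_mem_sup (hmem _ (mul_mem hc hc₀) h1) (inv_mem (mem_zpowers c₀))
    rwa [mul_inv_cancel_right] at h2

/-- A nontrivial 2-group has a proper subgroup containing all squares. -/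
theorem exists_lt_squares {A : Subgroup G} (hA : IsPGroup 2 A) (hA1 : A ≠ ⊥) :
    ∃ M : Subgroup G, M ≤ A ∧ 2 * Nat.card M ≤ Nat.card A ∧ ∀ x ∈ A, x * x ∈ M := by
  haveI : Fact (Nat.Prime 2) := ⟨Nat.prime_two⟩
  haveI : Nontrivial A := (nontrivial_iff_ne_bot _).2 hA1
  obtain ⟨n, hn, hn'⟩ := hA.nontrivial_iff_card.1 inferInstance
  obtain ⟨k, rfl⟩ := Nat.exists_eq_succ_of_ne_zero hn.ne'
  obtain ⟨M, hM⟩ := Sylow.exists_subgroup_card_pow_prime (G := A) 2
    (hn' ▸ pow_dvd_pow 2 k.le_succ : 2 ^ k ∣ Nat.card A)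
  have hidx : M.index = 2 := by
    have := M.card_mul_index
    rw [hM, hn', pow_succ] at this
    exact Nat.eq_of_mul_eq_mul_left (by positivity) this
  refine ⟨M.map A.subtype, map_subtype_le _, ?_, fun x hx => ⟨⟨x, hx⟩ ^ 2, sq_mem_of_index_two hidx _, by
    rw [map_pow]; exact sq x⟩⟩
  rw [card_map_of_injective A.subtype_injective, hM, hn', pow_succ']

end CfsgLib.KlingerMason
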