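import Cfsg.Agent.Lib.LocalEven.KlingerMason.Symplectic

/-!
A minimal invariant moved subgroup of the centraliser of a hyperplane: a quaternion group when
`p = 3`, of order at least 32 otherwise.
-/

set_option autoImplicit false
set_option linter.style.haveILetI false
set_option linter.unusedSectionVars false
set_option linter.style.show false

namespace CfsgLib.KlingerMason

open Subgroup Cfsg
open scoped Pointwise

variable {G : Type*} [Group G] [Finite G]

/-- A 2-group normalised by `E` in which every invariant elementary abelian subgroup lies in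
`⟨z⟩`, `z` a central fixed involution. -/
structure ZGroup (p m : ℕ) (E T : Subgroup G) (z : G) : Prop where
  ea : IsElementaryAbelian p E
  card : Nat.card E = p ^ m
  two : IsPGroup 2 T
  norm : E ≤ normalizer (T : Set G)
  sq : z * z = 1
  ne : z ≠ 1
  mem : z ∈ T
  central : T ≤ centralizer ((zpowers z : Subgroup G) : Set G)
  fixed : z ∈ centralizer (E : Set G)
  uniq : ∀ i ∈ T, i ∈ centralizer (E : Set G) → i * i = 1 → i ∈ zpowers z
  noEA : ∀ V : Subgroup G, V ≤ T → IsElementaryAbelian 2 V → E ≤ normalizer (V : Set G) →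
    V ≤ zpowers z

variable {p m : ℕ}

/-- A minimal moved subgroup. -/
theorem ZGroup.exists_unit (hp : p.Prime) (hp2 : p ≠ 2) (hm : 1 ≤ m) {E T D T' : Subgroup G}
    {z : G} (X : ZGroup p m E T z) (hD : D ≤ E) (hDc : Nat.card D = p ^ (m - 1))
    (hT' : T' ≤ T) (hET' : E ≤ normalizer (T' : Set G)) (hzT' : z ∈ T')
    (hmov : ¬ T' ⊓ centralizer (D : Set G) ≤ centralizer (E : Set G)) :
    ∃ W : Subgroup G, W ≤ T' ⊓ centralizer (D : Set G) ∧ E ≤ normalizer (W : Set G) ∧
      SymplecticLike (zpowers z) W ∧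
      W ⊓ centralizer (E : Set G) ≤ zpowers z ∧
      ((p = 3 ∧ Nat.card W = 8 ∧ ∀ a ∈ E, a ∉ D → ∀ y ∈ W, y ∉ zpowers z →
          y * y = z ∧ y⁻¹ * (a * y * a⁻¹) ∉ zpowers z ∧
          (y * (a * y * a⁻¹))⁻¹ * (a * (a * y * a⁻¹) * a⁻¹) ∈ zpowers z) ∨
        (p ≠ 3 ∧ 32 ≤ Nat.card W)) := by
  classical
  haveI := Fact.mk hp
  haveI : Fact (Nat.Prime 2) := ⟨Nat.prime_two⟩
  haveI := X.ea.1
  set Z := zpowers z with hZdef
  have hEZ : E ≤ normalizer (Z : Set G) := by
    refine (le_centralizer_iff.1 ?_).trans (centralizer_le_normalizer _)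
    exact zpowers_le.2 X.fixed
  have hzD : z ∈ centralizer (D : Set G) := centralizer_le hD X.fixed
  obtain ⟨W, hWmem, hWmin⟩ := Set.Finite.exists_minimal (Set.toFinite
      {W : Subgroup G | Z ≤ W ∧ W ≤ T' ⊓ centralizer (D : Set G) ∧ E ≤ normalizer (W : Set G) ∧
        ¬ W ≤ centralizer (E : Set G)})
    ⟨T' ⊓ centralizer (D : Set G), zpowers_le.2 ⟨hzT', hzD⟩, le_rfl,
      (le_inf hET' (le_normalizer_centralizer X.ea.1 hD)).trans inf_normalizer_le_normalizer_inf,
      hmov⟩
  obtain ⟨hZW, hWle, hEW, hWmov⟩ := hWmem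
  have hWT : W ≤ T := hWle.trans (inf_le_left.trans hT')
  have hW2 : IsPGroup 2 W := X.two.to_le hWT
  have hWZ : W ≤ centralizer (Z : Set G) := hWT.trans X.central
  have hmin : ∀ B : Subgroup G, Z ≤ B → B ≤ W → E ≤ normalizer (B : Set G) → B ≠ W →
      B ≤ centralizer (E : Set G) := by
    intro B h1 h2 h3 h4
    by_contra h5
    exact h4 (le_antisymm h2 (hWmin ⟨h1, h2.trans hWle, h3, h5⟩ h2))
  have hWE : ⁅W, E⁆ ⊔ Z = W := by
    have hle : ⁅W, E⁆ ≤ W := le_normalizer_iff_commutator_le_left.1 hEW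
    by_contra hne
    have h1 := hmin _ le_sup_right (sup_le hle hZW)
      (le_normalizer_iff.2 fun e he y hy => (sup_le (fun w hw => mem_sup_left
        ((mem_normalizer_iff.1 (normalizer_commutator_ge_right W E he) w).1 hw))
        (fun w hw => mem_sup_right ((mem_normalizer_iff.1 (hEZ he) w).1 hw)) :
        ⁅W, E⁆ ⊔ Z ≤ (⁅W, E⁆ ⊔ Z).comap (MulAut.conj e).toMonoidHom) hy) hne
    have hcop : (Nat.card E).Coprime (Nat.card W) :=
      (coprime_two_of_isPGroup hp2 hW2 (ea_isPGroup X.ea)).symm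
    have h2 : ⁅⁅W, E⁆, E⁆ = ⊥ :=
      commutator_eq_bot_iff_le_centralizer.2 (le_sup_left.trans h1)
    rw [Coprime.commutator_commutator_self hEW hcop (.inr (by
      haveI := hW2.isNilpotent; infer_instance))] at h2
    exact hWmov (commutator_eq_bot_iff_le_centralizer.1 h2)
  have hgenW : ∀ M : Subgroup G, z ∈ M → (∀ x ∈ W, ∀ e ∈ E, x⁻¹ * (e * x * e⁻¹) ∈ M) → W ≤ M := by
    intro M hzM hM
    rw [← hWE]
    refine sup_le (commutator_le.2 fun x hx e he => ?_) (zpowers_le.2 hzM)
    have := hM x⁻¹ (inv_mem hx) e he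
    rw [inv_inv] at this
    rw [commutatorElement_def, show x * e * x⁻¹ * e⁻¹ = x * (e * x⁻¹ * e⁻¹) by group]
    exact this
  -- squares
  set Φ := closure {y : G | ∃ x ∈ W, x * x = y} ⊔ Z
  have hΦW : Φ ≤ W := sup_le ((closure_le W).2 (by rintro _ ⟨x, hx, rfl⟩; exact W.mul_mem hx hx)) hZW
  have hEΦ : E ≤ normalizer (Φ : Set G) := by
    refine le_normalizer_iff.2 fun e he y hy => ?_
    have hle : Φ ≤ Φ.comap (MulAut.conj e).toMonoidHom := sup_le ((closure_le _).2 (by
      rintro _ ⟨x, hx, rfl⟩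
      exact mem_sup_left (subset_closure ⟨e * x * e⁻¹, (mem_normalizer_iff.1 (hEW he) x).1 hx, by
        show _ = e * (x * x) * e⁻¹
        group⟩))) (zpowers_le.2 (by
      show e * z * e⁻¹ ∈ Φ
      rw [mem_centralizer_iff.1 X.fixed e he, mul_inv_cancel_right]
      exact mem_sup_right (mem_zpowers z)))
    exact hle hy
  have hΦne : Φ ≠ W := by
    intro heq
    have hW1 : W ≠ ⊥ := fun h => hWmov (h ▸ bot_le)
    obtain ⟨M₁, hM₁W, hM₁c, hM₁s⟩ := exists_lt_squares hW2 hW1
    have hzN : z ∈ normalizer (M₁ : Set G) := by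
      refine centralizer_le_normalizer _ (mem_centralizer_iff.2 fun g hg => ?_)
      exact (mem_centralizer_iff.1 (hWZ (hM₁W hg)) z (mem_zpowers z)).symm
    have hsup : W ≤ M₁ ⊔ Z := by
      rw [← heq]
      exact sup_le_sup_right ((closure_le _).2 (by rintro _ ⟨x, hx, rfl⟩; exact hM₁s x hx)) _
    have hM₁1 : M₁ ≠ ⊥ := by
      intro h
      rw [h, bot_sup_eq] at hsup
      exact hWmov (hsup.trans (zpowers_le.2 X.fixed))
    obtain ⟨M₂, hM₂M, hM₂c, hM₂s⟩ := exists_lt_squares (hW2.to_le hM₁W) hM₁1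
    have hzN₂ : z ∈ normalizer (M₂ : Set G) := by
      refine centralizer_le_normalizer _ (mem_centralizer_iff.2 fun g hg => ?_)
      exact (mem_centralizer_iff.1 (hWZ (hM₁W (hM₂M hg))) z (mem_zpowers z)).symm
    have hsq2 : W ≤ M₂ ⊔ Z := by
      rw [← heq]
      refine sup_le_sup_right ((closure_le _).2 ?_) _
      rintro _ ⟨x, hx, rfl⟩
      rcases mem_sup_zpowers_sq hzN (by rw [X.sq]; exact one_mem _) (hsup hx) with h | ⟨b, hb, rfl⟩
      · exact hM₂s x h
      · have hc : Commute z b := mem_centralizer_iff.1 (hWZ (hM₁W hb)) z (mem_zpowers z)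
        show b * z * (b * z) ∈ M₂
        rw [hc.mul_mul_mul_comm, X.sq, mul_one]
        exact hM₂s b hb
    have h1 := (card_le_of_le hsq2).trans
      (card_sup_zpowers_sq hzN₂ (by rw [X.sq]; exact one_mem _))
    have hpos : 0 < Nat.card M₂ := Nat.card_pos
    omega
  have hΦE := hmin Φ le_sup_right hΦW hEΦ hΦne
  have hsqΦ : ∀ x ∈ W, x * x ∈ Φ := fun x hx => mem_sup_left (subset_closure ⟨x, hx, rfl⟩)
  have hcommΦ : ∀ x ∈ W, ∀ y ∈ W, x * y * x⁻¹ * y⁻¹ ∈ Φ := by
    intro x hx y hy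
    have := mul_mem (mul_mem (hsqΦ x hx) (hsqΦ _ (mul_mem (inv_mem hx) hy)))
      (hsqΦ _ (inv_mem hy))
    rwa [show x * x * (x⁻¹ * y * (x⁻¹ * y)) * (y⁻¹ * y⁻¹) = x * y * x⁻¹ * y⁻¹ by group] at this
  have hΦZ : ∀ φ ∈ Φ, ∀ x ∈ W, x * φ = φ * x := by
    intro φ hφ
    have := hgenW (W ⊓ centralizer ({φ} : Set G)) ⟨hZW (mem_zpowers z),
      mem_centralizer_singleton_of_commute
        (mem_centralizer_iff.1 (hWZ (hΦW hφ)) z (mem_zpowers z)).symm⟩ ?_
    · exact fun x hx => (commute_of_mem_centralizer_singleton (this hx).2).symm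
    intro x hx e he
    set x' := e * x * e⁻¹
    have hx' : x' ∈ W := (mem_normalizer_iff.1 (hEW he) x).1 hx
    refine ⟨W.mul_mem (W.inv_mem hx) hx', mem_centralizer_singleton_of_commute ?_⟩
    have hφe : φ * e = e * φ := (mem_centralizer_iff.1 (hΦE hφ) e he).symm
    have hconj : x * φ * x⁻¹ ∈ Φ := by
      have := mul_mem (hcommΦ x hx φ (hΦW hφ)) hφ
      rwa [inv_mul_cancel_right] at this
    have hfix : e * (x * φ * x⁻¹) = (x * φ * x⁻¹) * e :=
      mem_centralizer_iff.1 (hΦE hconj) e he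
    have hxx : x' * φ * x'⁻¹ = x * φ * x⁻¹ := by
      calc x' * φ * x'⁻¹ = e * x * (e⁻¹ * (φ * e)) * x⁻¹ * e⁻¹ := by simp only [x']; group
        _ = e * (x * φ * x⁻¹) * e⁻¹ := by rw [hφe]; group
        _ = x * φ * x⁻¹ := by rw [hfix, mul_inv_cancel_right]
    calc φ * (x⁻¹ * x') = x⁻¹ * (x * φ * x⁻¹) * x' := by group
      _ = x⁻¹ * x' * φ := by rw [← hxx]; group
  have hinvolZ : ∀ i ∈ Φ, i * i = 1 → i ∈ Z := fun i hi h2 => X.uniq i (hWT (hΦW hi)) (hΦE hi) h2
  have hcomm : ∀ x ∈ W, ∀ y ∈ W, x * y * x⁻¹ * y⁻¹ ∈ Z := by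
    intro x hx y hy
    set c := x * y * x⁻¹ * y⁻¹
    refine hinvolZ c (hcommΦ x hx y hy) ?_
    have hc : Commute c y := (hΦZ c (hcommΦ x hx y hy) y hy).symm
    have h1 : x * y * x⁻¹ = c * y := by simp only [c]; group
    have h2 : (c * y) * (c * y) = y * y := by
      rw [← h1]
      calc x * y * x⁻¹ * (x * y * x⁻¹) = x * (y * y) * x⁻¹ := by group
        _ = y * y := by rw [hΦZ _ (hsqΦ y hy) x hx, mul_inv_cancel_right]
    rwa [hc.symm.mul_mul_mul_comm, mul_eq_right] at h2
  have hsq : ∀ x ∈ W, x * x ∈ Z := by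
    have hzz : Commute z z := Commute.refl z
    let M : Subgroup G :=
      { carrier := {x | x ∈ W ∧ x * x ∈ Z}
        one_mem' := ⟨one_mem _, by rw [one_mul]; exact one_mem _⟩
        mul_mem' := fun {a b} ha hb => ⟨mul_mem ha.1 hb.1, by
          have hc : Commute (b * a * b⁻¹ * a⁻¹) a :=
            mem_centralizer_iff.1 (hWZ ha.1) _ (hcomm b hb.1 a ha.1)
          have e : a * b * (a * b) = (b * a * b⁻¹ * a⁻¹) * ((a * a) * (b * b)) := by
            calc a * b * (a * b) = a * (b * a * b⁻¹ * a⁻¹) * (a * (b * b)) := by group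
              _ = (b * a * b⁻¹ * a⁻¹) * a * (a * (b * b)) := by rw [hc.eq]
              _ = _ := by group
          rw [e]
          exact mul_mem (hcomm b hb.1 a ha.1) (mul_mem ha.2 hb.2)⟩
        inv_mem' := fun {a} ha => ⟨inv_mem ha.1, by rw [← mul_inv_rev]; exact inv_mem ha.2⟩ }
    have hWM : W ≤ M := hgenW M ⟨hZW (mem_zpowers z), by rw [X.sq]; exact one_mem _⟩ ?_
    · exact fun x hx => (hWM hx).2
    intro x hx e he
    set x' := e * x * e⁻¹
    have hx' : x' ∈ W := (mem_normalizer_iff.1 (hEW he) x).1 hx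
    refine ⟨mul_mem (inv_mem hx) hx', ?_⟩
    have hc : Commute (x' * x⁻¹ * x'⁻¹ * x⁻¹⁻¹) x⁻¹ :=
      mem_centralizer_iff.1 (hWZ (inv_mem hx)) _ (hcomm x' hx' x⁻¹ (inv_mem hx))
    have h1 : x' * x' = x * x := by
      calc x' * x' = e * (x * x) * e⁻¹ := by simp only [x']; group
        _ = x * x := by
          rw [mem_centralizer_iff.1 (hΦE (hsqΦ x hx)) e he, mul_inv_cancel_right]
    have e2 : x⁻¹ * x' * (x⁻¹ * x') = x' * x⁻¹ * x'⁻¹ * x⁻¹⁻¹ := by
      calc x⁻¹ * x' * (x⁻¹ * x')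
          = x⁻¹ * (x' * x⁻¹ * x'⁻¹ * x⁻¹⁻¹) * (x⁻¹ * (x' * x')) := by group
        _ = (x' * x⁻¹ * x'⁻¹ * x⁻¹⁻¹) * x⁻¹ * (x⁻¹ * (x * x)) := by rw [hc.eq, h1]
        _ = x' * x⁻¹ * x'⁻¹ * x⁻¹⁻¹ := by group
    rw [e2]
    exact hcomm x' hx' x⁻¹ (inv_mem hx)
  have hsym : SymplecticLike Z W := ⟨hZW, hWZ, hsq, hcomm⟩
  -- the quotient
  haveI hnorm : (Z.subgroupOf W).Normal := ⟨fun n hn g => by
    rw [mem_subgroupOf] at hn ⊢
    push_cast
    rw [← mem_centralizer_iff.1 (hWZ g.2) _ hn, mul_inv_cancel_right]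
    exact hn⟩
  let π := QuotientGroup.mk' (Z.subgroupOf W)
  have hπ : ∀ x y : W, π x = π y ↔ (x : G)⁻¹ * y ∈ Z := fun x y => by
    rw [QuotientGroup.mk'_apply, QuotientGroup.mk'_apply, QuotientGroup.eq, mem_subgroupOf]
    push_cast
    exact Iff.rfl
  have hQc : ∀ a b : W ⧸ Z.subgroupOf W, a * b = b * a := by
    intro a b
    induction a using QuotientGroup.induction_on with | _ x =>
    induction b using QuotientGroup.induction_on with | _ y =>
    show π (x * y) = π (y * x)
    rw [hπ]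
    push_cast
    have := hcomm _ (inv_mem y.2) _ (inv_mem x.2)
    rwa [show ((x : G) * y)⁻¹ * (y * x) = (y : G)⁻¹ * (x : G)⁻¹ * (y : G)⁻¹⁻¹ * (x : G)⁻¹⁻¹ by group]
  letI : CommGroup (W ⧸ Z.subgroupOf W) :=
    { (inferInstance : Group (W ⧸ Z.subgroupOf W)) with mul_comm := hQc }
  have hQ2 : ∀ q : W ⧸ Z.subgroupOf W, q * q = 1 := by
    intro q
    induction q using QuotientGroup.induction_on with | _ x =>
    show π (x * x) = 1
    rw [QuotientGroup.mk'_apply, QuotientGroup.eq_one_iff, mem_subgroupOf]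
    exact hsq x x.2
  have hDfix : ∀ d ∈ D, ∀ x ∈ W, d * x = x * d := fun d hd x hx =>
    mem_centralizer_iff.1 (hWle hx).2 d hd
  obtain ⟨a, ha, haD⟩ := SetLike.not_le_iff_exists.1 fun h : E ≤ D => by
    have := card_le_of_le h
    rw [X.card, hDc] at this
    exact absurd this (not_le.2 (Nat.pow_lt_pow_right hp.one_lt (by omega)))
  have hEgen : ∀ b ∈ E, b ∉ D → D ⊔ zpowers b = E := by
    intro b hb hbD
    refine eq_of_le_of_card_ge (sup_le hD (zpowers_le.2 hb)) (le_of_eq ?_)
    rw [(ea_extend hp (ea_mono hD X.ea) (X.ea.2 b hb)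
      (mem_centralizer_iff.2 fun g hg => setLike_mul_comm (hD hg) hb) hbD).2, X.card, hDc,
      ← pow_succ]
    congr 1; omega
  -- facts for one element `b` outside `D`
  have facts : ∀ b ∈ E, b ∉ D → ∃ cj : ℕ → W → W, (∀ i x, (cj i x : G) = b ^ i * x * (b ^ i)⁻¹) ∧
      (∀ x : W, π (cj 1 x) = π x → π x = 1) ∧
      ∀ x : W, ∏ i ∈ Finset.range p, π (cj i x) = 1 := by
    intro b hb hbD
    let cj : ℕ → W → W := fun i x =>
      ⟨b ^ i * x * (b ^ i)⁻¹, (mem_normalizer_iff.1 (hEW (pow_mem hb i)) x).1 x.2⟩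
    let N : W →* W ⧸ Z.subgroupOf W := MonoidHom.mk' (fun x => ∏ i ∈ Finset.range p, π (cj i x))
      fun x y => by
        rw [← Finset.prod_mul_distrib]
        refine Finset.prod_congr rfl fun i _ => ?_
        rw [← map_mul]
        congr 1
        exact Subtype.ext (by simp [cj, mul_assoc])
    have hNshift : ∀ x : W, N (cj 1 x) = N x := by
      intro x
      show ∏ i ∈ Finset.range p, π (cj i (cj 1 x)) = ∏ i ∈ Finset.range p, π (cj i x)
      have hcc : ∀ i, cj i (cj 1 x) = cj (i + 1) x := fun i => Subtype.ext (by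
        simp [cj, pow_succ, mul_assoc])
      have h0 : cj p x = cj 0 x := Subtype.ext (by simp [cj, X.ea.2 b hb])
      simp only [hcc]
      have h1 := Finset.prod_range_succ' (fun i => π (cj i x)) p
      rw [Finset.prod_range_succ, h0] at h1
      exact (mul_right_cancel h1).symm
    have hshift : ∀ (k : ℕ) (x : W), N (cj k x) = N x := by
      intro k
      induction k with
      | zero => intro x; exact congrArg N (Subtype.ext (by simp [cj]))
      | succ k ih =>
        intro x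
        rw [show cj (k + 1) x = cj k (cj 1 x) from Subtype.ext (by simp [cj, pow_succ, mul_assoc]),
          ih, hNshift]
    have hN1 : ∀ x : W, N x = 1 := by
      have hWM : W ≤ N.ker.map W.subtype := hgenW _ ⟨⟨z, hZW (mem_zpowers z)⟩, by
        show ∏ i ∈ Finset.range p, π (cj i ⟨z, hZW (mem_zpowers z)⟩) = 1
        refine Finset.prod_eq_one fun i _ => ?_
        rw [QuotientGroup.mk'_apply, QuotientGroup.eq_one_iff, mem_subgroupOf]
        show b ^ i * z * (b ^ i)⁻¹ ∈ Z
        rw [mem_centralizer_iff.1 X.fixed _ (pow_mem hb i), mul_inv_cancel_right]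
        exact mem_zpowers z, rfl⟩ ?_
      · intro x
        obtain ⟨x', hx', he⟩ := hWM x.2
        rw [show x = x' from Subtype.ext he.symm]
        exact hx'
      intro x hx e he
      rw [← hEgen b hb hbD] at he
      have hset : ((D ⊔ zpowers b : Subgroup G) : Set G) = (D : Set G) * (zpowers b : Set G) :=
        coe_mul_of_right_le_normalizer_left D (zpowers b) (zpowers_le.2 (centralizer_le_normalizer _
          (mem_centralizer_iff.2 fun g hg => setLike_mul_comm (hD hg) hb)))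
      have he' : e ∈ ((D ⊔ zpowers b : Subgroup G) : Set G) := he
      rw [hset] at he'
      obtain ⟨d, hd, w, hw, rfl⟩ := he'
      obtain ⟨k, hk⟩ : ∃ k : ℕ, b ^ k = w := by
        exact (Submonoid.mem_powers_iff _ _).1 (mem_powers_iff_mem_zpowers.2 hw)
      have hdw : d * w * x * (d * w)⁻¹ = b ^ k * x * (b ^ k)⁻¹ := by
        have hmem : w * x * w⁻¹ ∈ W :=
          (mem_normalizer_iff.1 (hEW (zpowers_le.2 hb hw)) x).1 hx
        calc d * w * x * (d * w)⁻¹ = d * (w * x * w⁻¹) * d⁻¹ := by group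
          _ = w * x * w⁻¹ := by rw [hDfix d hd _ hmem, mul_inv_cancel_right]
          _ = _ := by rw [hk]
      refine ⟨⟨x, hx⟩⁻¹ * cj k ⟨x, hx⟩, ?_, ?_⟩
      · show N _ = 1
        rw [map_mul, map_inv, hshift, inv_mul_cancel]
      · show x⁻¹ * (b ^ k * x * (b ^ k)⁻¹) = x⁻¹ * (d * w * x * (d * w)⁻¹)
        rw [hdw]
    refine ⟨cj, fun i x => rfl, fun x hx => ?_, hN1⟩
    have hall : ∀ i, π (cj i x) = π x := by
      intro i
      induction i with
      | zero => exact congrArg π (Subtype.ext (by simp [cj]))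
      | succ i ih =>
        rw [← ih, hπ]
        have h1 : (x : G)⁻¹ * (b ^ 1 * x * (b ^ 1)⁻¹) ∈ Z := (hπ x (cj 1 x)).1 hx.symm
        rw [pow_one] at h1
        have h2 := (mem_normalizer_iff.1 (hEZ (pow_mem hb i)) _).1 h1
        have h3 : ((cj (i + 1) x : W) : G)⁻¹ * (cj i x : W) =
            (b ^ i * ((x : G)⁻¹ * (b * x * b⁻¹)) * (b ^ i)⁻¹)⁻¹ := by
          simp only [cj, pow_succ]
          group
        rw [h3]
        exact inv_mem h2
    have h1 : (π x) ^ p = 1 := by
      rw [← hN1 x, ← Finset.card_range p, ← Finset.prod_const]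
      exact (Finset.prod_congr rfl fun i _ => hall i).symm
    obtain ⟨k, hk⟩ := hp.odd_of_ne_two hp2
    rw [hk, pow_succ, pow_mul, pow_two, hQ2, one_pow, one_mul] at h1
    exact h1
  have hπ1 : ∀ y : W, π y = 1 ↔ (y : G) ∈ Z := fun y => by
    rw [QuotientGroup.mk'_apply, QuotientGroup.eq_one_iff, mem_subgroupOf]
  have hfix : W ⊓ centralizer (E : Set G) ≤ Z := by
    intro y hy
    obtain ⟨cj, hcj, hfix, -⟩ := facts a ha haD
    refine (hπ1 ⟨y, hy.1⟩).1 (hfix _ (congrArg π (Subtype.ext ?_)))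
    show (cj 1 ⟨y, hy.1⟩ : G) = y
    rw [hcj, pow_one, mem_centralizer_iff.1 hy.2 a ha, mul_inv_cancel_right]
  refine ⟨W, hWle, hEW, hsym, hfix, ?_⟩
  have hcardW : Nat.card W = Nat.card (W ⧸ Z.subgroupOf W) * 2 := by
    rw [card_eq_card_quotient_mul_card_subgroup (Z.subgroupOf W),
      Nat.card_congr (subgroupOfEquivOfLe hZW).toEquiv, Nat.card_zpowers,
      orderOf_eq_prime (p := 2) (by rw [pow_two]; exact X.sq) X.ne]
  obtain ⟨y₀, hy₀, hy₀Z⟩ := SetLike.not_le_iff_exists.1
    fun h : W ≤ Z => hWmov (h.trans (zpowers_le.2 X.fixed))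
  obtain ⟨cj, hcj, hcjfix, hN⟩ := facts a ha haD
  have hcj0 : ∀ x : W, cj 0 x = x := fun x => Subtype.ext (by simp [hcj])
  have hcjadd : ∀ i j (x : W), cj i (cj j x) = cj (i + j) x := fun i j x => Subtype.ext (by
    simp [hcj, pow_add, mul_assoc])
  have hcjp : ∀ i (x : W), cj (i + p) x = cj i x := fun i x => Subtype.ext (by
    simp [hcj, pow_add, X.ea.2 a ha])
  have hcjπ : ∀ i (x y : W), π x = π y → π (cj i x) = π (cj i y) := by
    intro i x y h
    rw [hπ] at h ⊢
    have := (mem_normalizer_iff.1 (hEZ (pow_mem ha i)) _).1 h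
    rwa [hcj, hcj, show (a ^ i * (x : G) * (a ^ i)⁻¹)⁻¹ * (a ^ i * y * (a ^ i)⁻¹) =
      a ^ i * ((x : G)⁻¹ * y) * (a ^ i)⁻¹ by group]
  -- orbits of nontrivial classes have length `p`
  have horb : ∀ x : W, π x ≠ 1 → ∀ i j, i < p → j < p → π (cj i x) = π (cj j x) → i = j := by
    intro x hx i j hi hj hij
    by_contra hne
    have key : ∀ i j, i < j → j < p → π (cj i x) = π (cj j x) → False := by
      intro i j hlt hj hij
      set d := j - i
      have h1 : π (cj d x) = π x := by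
        have h := hcjπ (p - i) _ _ hij
        rw [hcjadd, hcjadd, show p - i + i = 0 + p by omega, hcjp, hcj0,
          show p - i + j = d + p by omega, hcjp] at h
        exact h.symm
      have hd : ∀ k, π (cj (d * k) x) = π x := by
        intro k
        induction k with
        | zero => rw [mul_zero, hcj0]
        | succ k ih => rw [Nat.mul_succ, ← hcjadd, hcjπ _ _ _ h1, ih]
      have hcop : d.Coprime p :=
        (hp.coprime_iff_not_dvd.2 (Nat.not_dvd_of_pos_of_lt (by omega) (by omega))).symm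
      obtain ⟨k, hk⟩ := Nat.exists_mul_mod_eq_one_of_coprime hcop hp.one_lt
      have h2 := hd k
      have h3 : cj (d * k) x = cj 1 x := Subtype.ext (by
        rw [hcj, hcj, ← Nat.div_add_mod (d * k) p, pow_add, pow_mul, X.ea.2 a ha, one_pow, one_mul,
          hk.2])
      rw [h3] at h2
      exact hx (hcjfix x h2)
    rcases Nat.lt_or_gt_of_ne hne with h | h
    · exact key i j h hj hij
    · exact key j i h hi hij.symm
  have hnotall : ¬ ∀ w ∈ W, w * w = 1 := by
    intro hall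
    have hea : IsElementaryAbelian 2 W := ⟨⟨⟨fun x y => Subtype.ext (by
        show (x : G) * y = y * x
        have h3 := hall _ (mul_mem x.2 y.2)
        calc (x : G) * y = ((x : G) * y)⁻¹ := (inv_eq_of_mul_eq_one_left h3).symm
          _ = (y : G) * x := by
            rw [mul_inv_rev, inv_eq_of_mul_eq_one_left (hall _ x.2),
              inv_eq_of_mul_eq_one_left (hall _ y.2)])⟩⟩, fun w hw => by rw [pow_two]; exact hall w hw⟩
    exact hWmov ((X.noEA W hWT hea hEW).trans (zpowers_le.2 X.fixed))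
  by_cases hp3 : p = 3
  · refine Or.inl ⟨hp3, ?_⟩
    subst hp3
    -- the subgroup spanned by one orbit
    have hspan : ∀ b ∈ E, b ∉ D → ∀ y ∈ W, y ∉ Z →
        y⁻¹ * (b * y * b⁻¹) ∉ Z ∧ (y * (b * y * b⁻¹))⁻¹ * (b * (b * y * b⁻¹) * b⁻¹) ∈ Z ∧
        W = Z ⊔ zpowers y ⊔ zpowers (b * y * b⁻¹) := by
      intro b hb hbD y hy hyZ
      obtain ⟨cb, hcb, hbfix, hNb⟩ := facts b hb hbD
      set y' := b * y * b⁻¹
      have hy' : y' ∈ W := (mem_normalizer_iff.1 (hEW hb) y).1 hy
      have h1 : y⁻¹ * y' ∉ Z := by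
        intro h
        refine hyZ ((hπ1 ⟨y, hy⟩).1 (hbfix _ ((hπ _ _).2 ?_)))
        rw [hcb, pow_one]
        have := inv_mem h
        rwa [mul_inv_rev, inv_inv] at this
      have h2 : (y * y')⁻¹ * (b * y' * b⁻¹) ∈ Z := by
        have h := hNb ⟨y, hy⟩
        rw [Finset.prod_range_succ, Finset.prod_range_succ, Finset.prod_range_one, ← map_mul] at h
        have h' : π (cb 0 ⟨y, hy⟩ * cb 1 ⟨y, hy⟩) = π (cb 2 ⟨y, hy⟩) := by
          rw [eq_inv_of_mul_eq_one_left h]
          exact inv_eq_of_mul_eq_one_left (hQ2 _)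
        rw [hπ] at h'
        simp only [Subgroup.coe_mul, hcb, pow_zero, inv_one, mul_one, one_mul, pow_one, pow_two]
          at h'
        have e : b * y' * b⁻¹ = b * b * y * (b * b)⁻¹ := by simp only [y']; group
        rw [e]
        exact h'
      refine ⟨h1, h2, ?_⟩
      set B := Z ⊔ zpowers y ⊔ zpowers y'
      have hBW : B ≤ W := sup_le (sup_le hZW (zpowers_le.2 hy)) (zpowers_le.2 hy')
      have hyB : y ∈ B := mem_sup_left (mem_sup_right (mem_zpowers y))
      have hy'B : y' ∈ B := mem_sup_right (mem_zpowers y')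
      have hZB : Z ≤ B := le_sup_left.trans le_sup_left
      have hb'B : ∀ w ∈ B, b * w * b⁻¹ ∈ B := by
        have hle : B ≤ B.comap (MulAut.conj b).toMonoidHom := by
          refine sup_le (sup_le (fun w hw => hZB ((mem_normalizer_iff.1 (hEZ hb) w).1 hw))
            (zpowers_le.2 ?_)) (zpowers_le.2 ?_)
          · exact hy'B
          · show b * y' * b⁻¹ ∈ B
            have := mul_mem (mul_mem hyB hy'B) (hZB h2)
            rwa [mul_inv_cancel_left] at this
        exact fun w hw => hle hw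
      have hEB : E ≤ normalizer (B : Set G) := by
        rw [← hEgen b hb hbD]
        refine sup_le (fun d hd => centralizer_le_normalizer _
          (mem_centralizer_iff.2 fun g hg => (hDfix d hd g (hBW hg)).symm)) (zpowers_le.2 ?_)
        refine mem_normalizer_iff.2 fun w => ⟨hb'B w, fun hw => ?_⟩
        have h3 := hb'B _ (hb'B _ hw)
        have hb3 : b ^ 3 = 1 := X.ea.2 b hb
        rw [show b * (b * (b * w * b⁻¹) * b⁻¹) * b⁻¹ = b ^ 3 * w * (b ^ 3)⁻¹ by
          rw [pow_succ, pow_two]; group, hb3, one_mul, inv_one, mul_one] at h3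
        exact h3
      refine (le_antisymm (hBW) ?_).symm
      by_contra hne
      have hBE := hmin B hZB hBW hEB fun h => hne h.ge
      refine h1 ?_
      have : y' = y := by
        simp only [y']
        rw [mem_centralizer_iff.1 (hBE hyB) b hb, mul_inv_cancel_right]
      rw [this, inv_mul_cancel]
      exact one_mem _
    obtain ⟨-, -, hW0⟩ := hspan a ha haD y₀ hy₀ hy₀Z
    have hN1 : y₀ ∈ normalizer (Z : Set G) := hsym.le_normalizer_of_le le_rfl hZW hy₀
    have hN2 : a * y₀ * a⁻¹ ∈ normalizer ((Z ⊔ zpowers y₀ : Subgroup G) : Set G) :=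
      hsym.le_normalizer_of_le le_sup_left (sup_le hZW (zpowers_le.2 hy₀))
        ((mem_normalizer_iff.1 (hEW ha) y₀).1 hy₀)
    have hcZ : Nat.card Z = 2 := by
      rw [Nat.card_zpowers, orderOf_eq_prime (p := 2) (by rw [pow_two]; exact X.sq) X.ne]
    have hle8 : Nat.card W ≤ 8 := by
      have h1 := card_sup_zpowers_sq hN1 (hsq y₀ hy₀)
      have h2 := card_sup_zpowers_sq hN2
        (mem_sup_left (hsq _ ((mem_normalizer_iff.1 (hEW ha) y₀).1 hy₀)))
      rw [← hW0] at h2
      rw [hcZ] at h1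
      omega
    have hge : 4 ≤ Nat.card (W ⧸ Z.subgroupOf W) := by
      let f : Option (Fin 3) → W ⧸ Z.subgroupOf W := fun o =>
        o.elim 1 fun i => π (cj i ⟨y₀, hy₀⟩)
      have hne1 : π ⟨y₀, hy₀⟩ ≠ 1 := fun h => hy₀Z ((hπ1 _).1 h)
      have hne : ∀ i : Fin 3, π (cj i ⟨y₀, hy₀⟩) ≠ 1 := by
        intro i h
        have h' := hcjπ (3 - i) (cj i ⟨y₀, hy₀⟩) 1 (by rw [h, map_one])
        rw [hcjadd, show (3 - (i : ℕ)) + i = 0 + 3 by omega, hcjp, hcj0] at h'
        refine hne1 (h'.trans ?_)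
        rw [hπ1, hcj]; simp
      have hf : Function.Injective f := by
        rintro (_ | i) (_ | j) h
        · rfl
        · exact absurd h.symm (hne j)
        · exact absurd h (hne i)
        · exact congrArg some (Fin.ext (horb _ hne1 i j i.2 j.2 h))
      simpa using Nat.card_le_card_of_injective f hf
    refine ⟨by omega, fun b hb hbD y hy hyZ => ?_⟩
    obtain ⟨h1, h2, hWy⟩ := hspan b hb hbD y hy hyZ
    refine ⟨?_, h1, h2⟩
    by_contra hyz
    have hy2 : y * y = 1 := ((mem_zpowers_involution X.sq).1 (hsq y hy)).resolve_right hyz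
    set y' := b * y * b⁻¹
    have hy' : y' ∈ W := (mem_normalizer_iff.1 (hEW hb) y).1 hy
    have hy'2 : y' * y' = 1 := by
      simp only [y']
      calc b * y * b⁻¹ * (b * y * b⁻¹) = b * (y * y) * b⁻¹ := by group
        _ = 1 := by rw [hy2, mul_one, mul_inv_cancel]
    have hy''2 : b * y' * b⁻¹ * (b * y' * b⁻¹) = 1 := by
      calc b * y' * b⁻¹ * (b * y' * b⁻¹) = b * (y' * y') * b⁻¹ := by group
        _ = 1 := by rw [hy'2, mul_one, mul_inv_cancel]
    set c := (y * y')⁻¹ * (b * y' * b⁻¹)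
    have hcc : Commute c (y * y') :=
      mem_centralizer_iff.1 (hWZ (mul_mem hy hy')) c h2
    have hc2 : c * c = 1 := by
      rcases (mem_zpowers_involution X.sq).1 h2 with h | h
      · rw [h, one_mul]
      · rw [h, X.sq]
    have hyy' : (y * y') * (y * y') = 1 := by
      have e : b * y' * b⁻¹ = y * y' * c := by simp only [c]; group
      rw [e, hcc.mul_mul_mul_comm, hc2, mul_one] at hy''2
      exact hy''2
    have hcomy : y' * y = y * y' := by
      calc y' * y = y'⁻¹ * y⁻¹ := by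
            rw [inv_eq_of_mul_eq_one_left hy'2, inv_eq_of_mul_eq_one_left hy2]
        _ = (y * y')⁻¹ := (mul_inv_rev _ _).symm
        _ = y * y' := inv_eq_of_mul_eq_one_left hyy'
    refine hnotall fun w hw => ?_
    have hea : IsElementaryAbelian 2 W := by
      rw [hWy]
      refine ea_sup (ea_sup (ea_zpowers (by rw [pow_two]; exact X.sq))
        (ea_zpowers (by rw [pow_two]; exact hy2)) ?_) (ea_zpowers (by rw [pow_two]; exact hy'2)) ?_
      · exact zpowers_le_centralizer (hWZ hy)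
      · refine sup_le (zpowers_le_centralizer (hWZ hy')) (zpowers_le_centralizer ?_)
        exact mem_centralizer_iff.2 fun g hg => by
          obtain ⟨i, rfl⟩ := mem_zpowers_iff.1 hg
          exact ((show Commute y' y from hcomy).symm.zpow_left i).eq
    rw [← pow_two]; exact hea.2 w hw
  · refine Or.inr ⟨hp3, ?_⟩
    haveI := Fintype.ofFinite (W ⧸ Z.subgroupOf W)
    have hp5 : 5 ≤ p := by
      by_contra h
      push Not at h
      have := hp.two_le
      interval_cases p
      · exact hp2 rfl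
      · exact hp3 rfl
      · exact absurd hp (by decide)
    obtain ⟨n, hn⟩ := (hW2.to_quotient (Z.subgroupOf W)).exists_card_eq
    set O : W → Finset (W ⧸ Z.subgroupOf W) := fun x =>
      (Finset.range p).image fun i => π (cj i x)
    have hO : ∀ x : W, π x ≠ 1 → (O x).card = p ∧ (1 : W ⧸ Z.subgroupOf W) ∉ O x := by
      intro x hx
      refine ⟨?_, fun h => ?_⟩
      · rw [Finset.card_image_of_injOn fun i hi j hj h => horb x hx i j
          (Finset.mem_range.1 hi) (Finset.mem_range.1 hj) h, Finset.card_range]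
      · obtain ⟨i, hi, h⟩ := Finset.mem_image.1 h
        rw [Finset.mem_range] at hi
        have h' := hcjπ (p - i) (cj i x) 1 (by rw [h, map_one])
        rw [hcjadd, show p - i + i = 0 + p by omega, hcjp, hcj0] at h'
        refine hx (h'.trans ?_)
        rw [hπ1, hcj]; simp
    have hne1 : π ⟨y₀, hy₀⟩ ≠ 1 := fun h => hy₀Z ((hπ1 _).1 h)
    have hlow : p + 1 ≤ Fintype.card (W ⧸ Z.subgroupOf W) := by
      obtain ⟨h1, h2⟩ := hO _ hne1
      have := Finset.card_le_univ (insert 1 (O ⟨y₀, hy₀⟩))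
      rw [Finset.card_insert_of_notMem h2, h1] at this
      exact this
    rw [← Nat.card_eq_fintype_card, hn] at hlow
    rw [hcardW, hn]
    by_contra hlt
    push Not at hlt
    have hn3 : n = 3 := by
      rcases lt_or_ge n 3 with h | h
      · have : 2 ^ n ≤ 2 ^ 2 := Nat.pow_le_pow_right two_pos (by omega)
        omega
      · by_contra hne
        have : 2 ^ 4 ≤ 2 ^ n := Nat.pow_le_pow_right two_pos (by omega)
        omega
    subst hn3
    have hzero : IsElementaryAbelian 2 Z := ea_zpowers (by rw [pow_two]; exact X.sq)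
    obtain ⟨y, hy, hyZ, hy2⟩ := hsym.exists_involution X.sq (mem_zpowers z) hZW hzero (by
      rw [inf_eq_left.2 hWZ, Nat.card_zpowers, orderOf_eq_prime (p := 2) (by rw [pow_two]; exact X.sq) X.ne,
        hcardW, hn]
      norm_num)
    obtain ⟨hyc, hy1⟩ := hO ⟨y, hy.1⟩ fun h => hyZ ((hπ1 _).1 h)
    have hall : ∀ q : W ⧸ Z.subgroupOf W, q ≠ 1 → q ∈ O ⟨y, hy.1⟩ := by
      intro q hq
      by_contra hqn
      obtain ⟨x, rfl⟩ := QuotientGroup.mk_surjective q
      obtain ⟨hxc, hx1⟩ := hO x hq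
      have hdisj : Disjoint (O x) (O ⟨y, hy.1⟩) := by
        refine Finset.disjoint_left.2 fun r hr hr' => hqn ?_
        obtain ⟨i, hi, rfl⟩ := Finset.mem_image.1 hr
        obtain ⟨j, -, h⟩ := Finset.mem_image.1 hr'
        rw [Finset.mem_range] at hi
        refine Finset.mem_image.2 ⟨(p - i + j) % p, Finset.mem_range.2 (Nat.mod_lt _ hp.pos), ?_⟩
        have h' := hcjπ (p - i) _ _ h
        rw [hcjadd, hcjadd, show p - i + i = 0 + p by omega, hcjp, hcj0] at h'
        have e : ∀ w : W, cj ((p - i + j) % p) w = cj (p - i + j) w := fun w => Subtype.ext (by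
          rw [hcj, hcj]
          conv_rhs => rw [← Nat.div_add_mod (p - i + j) p, pow_add, pow_mul, X.ea.2 a ha, one_pow,
            one_mul])
        show π _ = π x
        rw [e]; exact h'
      have := Finset.card_le_univ (insert (1 : W ⧸ Z.subgroupOf W) (O x ∪ O ⟨y, hy.1⟩))
      rw [Finset.card_insert_of_notMem (by simp [hx1, hy1]), Finset.card_union_of_disjoint hdisj,
        hxc, hyc, ← Nat.card_eq_fintype_card, hn] at this
      omega
    refine hnotall fun w hw => ?_
    by_cases hwZ : w ∈ Z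
    · rcases (mem_zpowers_involution X.sq).1 hwZ with h | h
      · rw [h, one_mul]
      · rw [h, X.sq]
    obtain ⟨i, -, hi⟩ := Finset.mem_image.1 (hall (π ⟨w, hw⟩) fun h => hwZ ((hπ1 _).1 h))
    rw [hπ, hcj] at hi
    set u := a ^ i * y * (a ^ i)⁻¹
    set c := u⁻¹ * w
    have hu : u * u = 1 := by
      simp only [u]
      calc a ^ i * y * (a ^ i)⁻¹ * (a ^ i * y * (a ^ i)⁻¹) = a ^ i * (y * y) * (a ^ i)⁻¹ := by group
        _ = 1 := by rw [hy2, mul_one, mul_inv_cancel]
    have huW : u ∈ W := (mem_normalizer_iff.1 (hEW (pow_mem ha i)) y).1 hy.1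
    have hcu : Commute c u := mem_centralizer_iff.1 (hWZ huW) c hi
    have hcc : c * c = 1 := by
      rcases (mem_zpowers_involution X.sq).1 hi with h | h
      · rw [h, one_mul]
      · rw [h, X.sq]
    rw [show w = u * c by simp only [c]; group, hcu.mul_mul_mul_comm, hu, hcc, one_mul]

end CfsgLib.KlingerMason
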